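import Mathlib
import Cfsg.Agent.H229.T.Abs
import Cfsg.Agent.Lib.SolvableNormalP

/-!
# S3588: the solvable radical (helper403)

`φ : G → A` surjective with solvable kernel `K`, `Om` a set of numbers closed under divisors containing the orders of the
elements of `G`, `S ≤ A`, `y ∈ A` of prime order `s ∤ |K|` whose normal closure contains `S`, no prime `w` is adjacent to
all primes of `S`.

* `centralizes` : a minimal normal subgroup `V ≤ K` of exponent `t`, `s t ∉ Om`, is centralized by `K`;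
* `not_dvd_card` : a Frobenius group in `S` with cyclic complement of order `m`, `m t ∉ Om`: `t ∤ |K|`;
* `no_commute` : no element of `K` of order `p` commutes with an element `a` of prime order `r ∤ |K|`, under a condition on
  the centralizer of the image of `a`;
* `order_image` : the order of the image of an element of order `p ^ j r 2 ^ b`.
-/

set_option autoImplicit false
set_option linter.unusedSectionVars false

namespace Cfsg.Agent.H403.S88.Grp

open Subgroup Finset Cfsg.Agent.H229.T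

universe u

/-- `c` without fixed points on `V`, `P` abelian of exponent prime to that of `V` -/
theorem comm_of_fpf {V : Type*} [Group V] [Finite V] (hVc : ∀ a b : V, a * b = b * a) {t : ℕ} (ht : t.Prime)
    (hV : ∀ v : V, v ^ t = 1) {P : Subgroup (MulAut V)} {w s : ℕ} (hw : w.Prime) (hs : s.Prime) (hws : w ≠ s)
    (hwt : w ≠ t) (hPab : ∀ a ∈ P, ∀ b ∈ P, a * b = b * a) (hPw : ∀ a ∈ P, a ^ w = 1) {c : MulAut V} (hc : c ^ s = 1)
    (hcP : ∀ a ∈ P, c * a * c⁻¹ ∈ P) (hfix : ∀ v, c v = v → v = 1) : ∀ a ∈ P, c * a * c⁻¹ = a := by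
  classical
  let _ : CommGroup V := { (inferInstance : Group V) with mul_comm := hVc }
  have := Fact.mk hw
  have hci : ∀ i : ℕ, ∀ a ∈ P, c ^ i * a * (c ^ i)⁻¹ ∈ P := by
    intro i
    induction i with
    | zero => intro a ha; simpa using ha
    | succ i ih =>
      intro a ha
      have h1 := hcP _ (ih a ha)
      convert h1 using 1
      rw [pow_succ']
      group
  have hcn : ∀ i : ℕ, ∀ a ∈ P, (c ^ i)⁻¹ * a * c ^ i ∈ P := by
    intro i a ha
    have h1 : (c ^ i)⁻¹ = c ^ ((s - 1) * i) := by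
      rw [inv_eq_iff_mul_eq_one, ← pow_add, show i + (s - 1) * i = s * i by
        obtain ⟨s', rfl⟩ : ∃ s', s = s' + 1 := ⟨s - 1, by have := hs.pos; omega⟩
        rw [Nat.add_sub_cancel]; ring, pow_mul, hc, one_pow]
    have h2 := hci ((s - 1) * i) a ha
    rw [← h1, inv_inv] at h2
    exact h2
  let κ : P →* P :=
    { toFun := fun a => ⟨c * a * c⁻¹ * (a : MulAut V)⁻¹, P.mul_mem (hcP a a.2) (P.inv_mem a.2)⟩
      map_one' := Subtype.ext (by
        show c * ((1 : P) : MulAut V) * c⁻¹ * (((1 : P) : MulAut V))⁻¹ = 1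
        rw [Subgroup.coe_one]; group)
      map_mul' := fun a b => Subtype.ext (by
        show c * ((a * b : P) : MulAut V) * c⁻¹ * ((a * b : P) : MulAut V)⁻¹ =
          (c * a * c⁻¹ * (a : MulAut V)⁻¹) * (c * b * c⁻¹ * (b : MulAut V)⁻¹)
        rw [Subgroup.coe_mul]
        have e1 := hPab _ (P.inv_mem a.2) _ (hcP b b.2)
        have e2 := hPab _ (P.inv_mem a.2) _ (P.inv_mem b.2)
        calc c * ((a : MulAut V) * b) * c⁻¹ * ((a : MulAut V) * b)⁻¹ =
            (c * a * c⁻¹) * ((c * b * c⁻¹) * ((b : MulAut V)⁻¹ * (a : MulAut V)⁻¹)) := by group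
          _ = (c * a * c⁻¹) * ((c * b * c⁻¹) * ((a : MulAut V)⁻¹ * (b : MulAut V)⁻¹)) := by rw [e2]
          _ = (c * a * c⁻¹) * (((c * b * c⁻¹) * (a : MulAut V)⁻¹) * (b : MulAut V)⁻¹) := by group
          _ = (c * a * c⁻¹) * (((a : MulAut V)⁻¹ * (c * b * c⁻¹)) * (b : MulAut V)⁻¹) := by rw [e1]
          _ = _ := by group) }
  let U : Subgroup (MulAut V) := κ.range.map P.subtype
  have hUP : U ≤ P := by
    rintro _ ⟨a, -, rfl⟩
    exact a.2
  have hU : ∀ a ∈ U, ∃ b ∈ P, a = c * b * c⁻¹ * b⁻¹ := by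
    rintro _ ⟨_, ⟨b, rfl⟩, rfl⟩
    exact ⟨b, b.2, rfl⟩
  have hU' : ∀ b ∈ P, c * b * c⁻¹ * b⁻¹ ∈ U := fun b hb => ⟨_, ⟨⟨b, hb⟩, rfl⟩, rfl⟩
  have hfinM : Finite (MulAut V) := inferInstance
  have hfinU : Finite U := inferInstance
  have key := H371.Frob.trivial_of_norm (V := V) (MonoidHom.id (MulAut V)) U (c := c) (m := s) (e := t) hs.pos
    (by
      intro a ha i
      obtain ⟨b, hb, rfl⟩ := hU a ha
      have h1 := hU' _ (hcn i b hb)
      have hcd : Commute c (c ^ i) := (Commute.refl c).pow_right i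
      generalize c ^ i = d at h1 hcd
      convert h1 using 1
      have e1 : c * d⁻¹ = d⁻¹ * c := hcd.inv_right.eq
      have e2 : d * c⁻¹ * d⁻¹ = c⁻¹ := by
        rw [← hcd.inv_left.eq, mul_inv_cancel_right]
      calc d⁻¹ * (c * b * c⁻¹ * b⁻¹) * d = (d⁻¹ * c) * b * c⁻¹ * b⁻¹ * d := by group
        _ = (c * d⁻¹) * b * (d * c⁻¹ * d⁻¹) * b⁻¹ * d := by rw [e1, e2]
        _ = _ := by group) ?_
    (fun v => hV v) ?_ ?_
  · intro a ha
    have h1 : c * a * c⁻¹ * a⁻¹ = 1 := by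
      apply MulEquiv.ext
      intro v
      exact key _ (hU' a ha) v
    exact mul_inv_eq_one.1 h1
  · intro i hi0 his a ha hcomm
    obtain ⟨b, hb, hab⟩ := hU a ha
    -- `c` commutes with `a`
    have hcop : Nat.Coprime i s := Nat.Coprime.symm ((Nat.Prime.coprime_iff_not_dvd hs).2 fun h => by
        have := Nat.le_of_dvd hi0 h
        omega)
    obtain ⟨k, hk⟩ : ∃ k : ℕ, (i * k) ≡ 1 [MOD s] := by
      obtain ⟨k, hk⟩ := Nat.exists_mul_mod_eq_one_of_coprime hcop hs.one_lt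
      exact ⟨k, by rw [Nat.ModEq, hk.2, Nat.mod_eq_of_lt hs.one_lt]⟩
    have hck : c ^ (i * k) = c := by
      have h1 : c ^ (i * k) = c ^ 1 := pow_eq_pow_iff_modEq.2 (hk.of_dvd (orderOf_dvd_of_pow_eq_one hc))
      rw [h1, pow_one]
    have hca : Commute c a := by
      have h1 : Commute (c ^ i) a := hcomm
      have h2 := h1.pow_left k
      rwa [← pow_mul, hck] at h2
    have hba : Commute b a := hPab b hb a (hUP ha)
    have hstep : ∀ j : ℕ, c ^ j * b * (c ^ j)⁻¹ = a ^ j * b := by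
      intro j
      induction j with
      | zero => simp
      | succ j ih =>
        have h1 : c * b * c⁻¹ = a * b := by rw [hab]; group
        calc c ^ (j + 1) * b * (c ^ (j + 1))⁻¹ = c * (c ^ j * b * (c ^ j)⁻¹) * c⁻¹ := by rw [pow_succ']; group
          _ = c * (a ^ j * b) * c⁻¹ := by rw [ih]
          _ = (c * a ^ j) * b * c⁻¹ := by group
          _ = (a ^ j * c) * b * c⁻¹ := by rw [(hca.pow_right j).eq]
          _ = a ^ j * (c * b * c⁻¹) := by group
          _ = a ^ (j + 1) * b := by rw [h1, pow_succ]; group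
    have h1 := hstep s
    rw [hc, one_mul, inv_one, mul_one] at h1
    have h2 : a ^ s = 1 := (mul_eq_right.1 h1.symm)
    have h3 := hPw a (hUP ha)
    have h4 : a ^ Nat.gcd s w = 1 := pow_gcd_eq_one.2 ⟨h2, h3⟩
    rwa [Nat.Coprime.gcd_eq_one ((Nat.coprime_primes hs hw).2 hws.symm), pow_one] at h4
  · have hUp : IsPGroup w U := by
      rw [IsPGroup.iff_orderOf]
      intro g
      have h1 : (g : MulAut V) ^ w = 1 := hPw g (hUP g.2)
      have h2 : orderOf g ∣ w := orderOf_dvd_of_pow_eq_one (Subtype.ext h1)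
      rcases (Nat.dvd_prime hw).1 h2 with h3 | h3
      · exact ⟨0, by rw [h3, pow_zero]⟩
      · exact ⟨1, by rw [h3, pow_one]⟩
    obtain ⟨k, hk⟩ := IsPGroup.iff_card.1 hUp
    rw [hk]
    exact Nat.Coprime.pow_left k ((Nat.coprime_primes hw ht).2 hwt)
  · intro v
    apply hfix
    have h6 : ∀ i, c ((MonoidHom.id (MulAut V) (c ^ i)) v) = (MonoidHom.id (MulAut V) (c ^ (i + 1))) v := by
      intro i
      rw [pow_succ']
      rfl
    obtain ⟨s', rfl⟩ : ∃ s', s = s' + 1 := ⟨s - 1, by have := hs.pos; omega⟩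
    rw [map_prod, Finset.prod_congr rfl (fun i _ => h6 i), Finset.prod_range_succ, hc, Finset.prod_range_succ' _ s',
      pow_zero]

section

variable {G : Type u} [Group G] [Finite G]

/-- nontrivial solvable normal subgroups contain nontrivial elementary abelian normal subgroups -/
theorem exists_elem (N : Subgroup G) [hN : N.Normal] (hs : Group.IsSolvable N) (h1 : N ≠ ⊥) :
    ∃ (r : ℕ) (V : Subgroup G), r.Prime ∧ V.Normal ∧ V ≤ N ∧ V ≠ ⊥ ∧ (∀ v ∈ V, ∀ w ∈ V, v * w = w * v) ∧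
      ∀ v ∈ V, v ^ r = 1 := by
  have : Nontrivial N := (Subgroup.nontrivial_iff_ne_bot N).2 h1
  obtain ⟨D, hDc, hDm, hD⟩ := Lib.SolvableNormalP.exists_comm_characteristic N
  have hcard : Nat.card D ≠ 1 := by
    rw [Ne, Subgroup.card_eq_one]; exact hD
  obtain ⟨r, hr, hrd⟩ := Nat.exists_prime_and_dvd hcard
  have := Fact.mk hr
  let D' : Subgroup G := D.map N.subtype
  have hD'n : D'.Normal := inferInstance
  have hD'c : ∀ v ∈ D', ∀ w ∈ D', v * w = w * v := by
    rintro _ ⟨a, ha, rfl⟩ _ ⟨b, hb, rfl⟩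
    have h2 := hDm.is_comm.comm (⟨a, ha⟩ : D) ⟨b, hb⟩
    have h3 : a * b = b * a := congrArg Subtype.val h2
    show N.subtype a * N.subtype b = N.subtype b * N.subtype a
    rw [← map_mul, h3, map_mul]
  let V : Subgroup G :=
    { carrier := {v | v ∈ D' ∧ v ^ r = 1}
      one_mem' := ⟨D'.one_mem, one_pow r⟩
      mul_mem' := by
        rintro a b ⟨ha, har⟩ ⟨hb, hbr⟩
        refine ⟨D'.mul_mem ha hb, ?_⟩
        have hc : Commute a b := hD'c a ha b hb
        rw [hc.mul_pow, har, hbr, one_mul]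
      inv_mem' := by
        rintro a ⟨ha, har⟩
        exact ⟨D'.inv_mem ha, by rw [inv_pow, har, inv_one]⟩ }
  refine ⟨r, V, hr, ⟨?_⟩, ?_, ?_, fun v hv w hw => hD'c v hv.1 w hw.1, fun v hv => hv.2⟩
  · rintro v ⟨hv, hvr⟩ g
    refine ⟨hD'n.conj_mem v hv g, ?_⟩
    rw [conj_pow, hvr]; simp
  · rintro _ ⟨⟨a, -, rfl⟩, -⟩
    exact a.2
  · obtain ⟨d, hd⟩ := exists_prime_orderOf_dvd_card' (G := D) r hrd
    intro hV
    have h2 : (((d : N)) : G) ∈ V := by
      refine ⟨⟨d, d.2, rfl⟩, ?_⟩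
      have h3 : d ^ r = 1 := by rw [← hd]; exact pow_orderOf_eq_one d
      have h4 := congrArg (fun x : D => (((x : N)) : G)) h3
      simpa using h4
    rw [hV, mem_bot] at h2
    have h3 : d = 1 := Subtype.ext (Subtype.ext h2)
    rw [h3, orderOf_one] at hd
    exact hr.one_lt.ne hd

/-- minimal normal subgroups -/
theorem exists_min (N : Subgroup G) [hN : N.Normal] (h : N ≠ ⊥) :
    ∃ V : Subgroup G, V.Normal ∧ V ≤ N ∧ V ≠ ⊥ ∧ ∀ W : Subgroup G, W.Normal → W ≤ V → W ≠ ⊥ → W = V := by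
  have hfin : {V : Subgroup G | V.Normal ∧ V ≤ N ∧ V ≠ ⊥}.Finite := Set.toFinite _
  obtain ⟨V, ⟨hV, hVN, hV0⟩, hmin⟩ := hfin.exists_minimal ⟨N, hN, le_rfl, h⟩
  exact ⟨V, hV, hVN, hV0, fun W hW hWV hW0 => le_antisymm hWV (hmin ⟨hW, hWV.trans hVN, hW0⟩ hWV)⟩

/-- minimal normal elementary abelian subgroups -/
theorem exists_min_elem (N : Subgroup G) [hN : N.Normal] (hs : Group.IsSolvable N) (h1 : N ≠ ⊥) :
    ∃ (r : ℕ) (V : Subgroup G), r.Prime ∧ V.Normal ∧ V ≤ N ∧ V ≠ ⊥ ∧ (∀ v ∈ V, ∀ w ∈ V, v * w = w * v) ∧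
      (∀ v ∈ V, v ^ r = 1) ∧ ∀ W : Subgroup G, W.Normal → W ≤ V → W ≠ ⊥ → W = V := by
  obtain ⟨V, hV, hVN, hV0, hmin⟩ := exists_min N h1
  have hsV : Group.IsSolvable V :=
    Group.isSolvable_of_isSolvable_injective (f := Subgroup.inclusion hVN) (Subgroup.inclusion_injective hVN)
  obtain ⟨r, V', hr, hV'n, hV'V, hV'0, hc, he⟩ := exists_elem V hsV hV0
  have h2 := hmin V' hV'n hV'V hV'0
  subst h2
  exact ⟨r, V', hr, hV, hVN, hV0, hc, he, hmin⟩

/-- the product of commuting elements of coprime orders, powers taken -/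
theorem order_mem {G : Type*} [Group G] [Finite G] {Om : Set ℕ} (hOm : ∀ g : G, orderOf g ∈ Om) {a b : ℕ}
    (hab : Nat.Coprime a b) {x z : G} (hx : a ∣ orderOf x) (hz : b ∣ orderOf z) (h : Commute x z) : a * b ∈ Om := by
  have hx0 : 0 < orderOf x := orderOf_pos x
  have hz0 : 0 < orderOf z := orderOf_pos z
  have h1 : orderOf (x ^ (orderOf x / a)) = a := by
    have ha0 : 0 < a := Nat.pos_of_dvd_of_pos hx hx0
    rw [orderOf_pow_of_dvd (Nat.div_pos (Nat.le_of_dvd hx0 hx) ha0).ne' (Nat.div_dvd_of_dvd hx),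
      Nat.div_div_self hx hx0.ne']
  have h2 : orderOf (z ^ (orderOf z / b)) = b := by
    have ha0 : 0 < b := Nat.pos_of_dvd_of_pos hz hz0
    rw [orderOf_pow_of_dvd (Nat.div_pos (Nat.le_of_dvd hz0 hz) ha0).ne' (Nat.div_dvd_of_dvd hz),
      Nat.div_div_self hz hz0.ne']
  have h3 := (h.pow_pow (orderOf x / a) (orderOf z / b)).orderOf_mul_eq_mul_orderOf_of_coprime (by rw [h1, h2]; exact hab)
  rw [← h1, ← h2, ← h3]
  exact hOm _

theorem om_quot {Om : Set ℕ} (hOm : ∀ g : G, orderOf g ∈ Om) (hdvd : ∀ a b, a ∣ b → b ∈ Om → a ∈ Om)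
    (M : Subgroup G) [M.Normal] : ∀ g : G ⧸ M, orderOf g ∈ Om := by
  intro g
  obtain ⟨g, rfl⟩ := QuotientGroup.mk_surjective g
  exact hdvd _ _ (orderOf_map_dvd (QuotientGroup.mk' M) g) (hOm g)

theorem exists_lift' {A : Type*} [Group A] (φ : G →* A) (hφ : Function.Surjective φ) {y : A}
    (hs : (orderOf y).Coprime (Nat.card φ.ker)) : ∃ x : G, φ x = y ∧ orderOf x = orderOf y := by
  let e := QuotientGroup.quotientKerEquivOfSurjective φ hφ
  obtain ⟨x, hx, hxo⟩ := exists_lift φ.ker (s := e.symm y) (by rwa [MulEquiv.orderOf_eq])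
  refine ⟨x, ?_, by rw [hxo, MulEquiv.orderOf_eq]⟩
  have h1 : e (x : G ⧸ φ.ker) = y := by rw [hx, MulEquiv.apply_symm_apply]
  exact h1

/-- **A minimal normal subgroup in the radical is centralized by the radical.** -/
theorem centralizes {A : Type*} [Group A] (φ : G →* A) (hφ : Function.Surjective φ) (hsol : Group.IsSolvable φ.ker)
    {Om : Set ℕ} (hOm : ∀ g : G, orderOf g ∈ Om) (hdvd : ∀ a b, a ∣ b → b ∈ Om → a ∈ Om) {t s : ℕ} (ht : t.Prime)
    (hs : s.Prime) (hst : s ≠ t) (hsK : ¬ s ∣ Nat.card φ.ker) (hts : s * t ∉ Om) {S : Subgroup A} {y : A}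
    (hy : orderOf y = s) (hyS : S ≤ normalClosure {y})
    (hw : ∀ w : ℕ, w.Prime → ∃ z : ℕ, z.Prime ∧ z ≠ w ∧ z ∣ Nat.card S ∧ z * w ∉ Om)
    {V : Subgroup G} [hVn : V.Normal] (hVK : V ≤ φ.ker) (hV1 : V ≠ ⊥) (hVc : ∀ v ∈ V, ∀ w ∈ V, v * w = w * v)
    (hVt : ∀ v ∈ V, v ^ t = 1) (hmin : ∀ W : Subgroup G, W.Normal → W ≤ V → W ≠ ⊥ → W = V) :
    ∀ k ∈ φ.ker, ∀ v ∈ V, k * v = v * k := by
  classical
  have hfinA : Finite A := Finite.of_surjective φ hφ
  have := Fact.mk ht
  have := Fact.mk hs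
  by_contra hcon
  let C : Subgroup G := φ.ker ⊓ centralizer (V : Set G)
  have hCn : C.Normal := inferInstance
  have hCker : C ≤ φ.ker := inf_le_left
  have hKC : φ.ker.map (QuotientGroup.mk' C) ≠ ⊥ := by
    intro h
    apply hcon
    intro k hk v hv
    have h1 : QuotientGroup.mk' C k ∈ φ.ker.map (QuotientGroup.mk' C) := mem_map_of_mem _ hk
    rw [h, mem_bot, QuotientGroup.mk'_apply, QuotientGroup.eq_one_iff] at h1
    exact (mem_centralizer_iff.1 h1.2 v hv).symm
  have hKn : (φ.ker.map (QuotientGroup.mk' C)).Normal := Subgroup.Normal.map inferInstance _ (QuotientGroup.mk'_surjective C)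
  have hKs : Group.IsSolvable (φ.ker.map (QuotientGroup.mk' C)) := by
    have := hsol
    exact Group.isSolvable_of_surjective ((QuotientGroup.mk' C).subgroupMap_surjective φ.ker)
  obtain ⟨w, W', hwp, hW'n, hW'K, hW'1, hW'c, hW'w⟩ := exists_elem _ hKs hKC
  have := Fact.mk hwp
  let W : Subgroup G := W'.comap (QuotientGroup.mk' C)
  have hWn : W.Normal := inferInstance
  have hWK : W ≤ φ.ker := by
    intro x hx
    obtain ⟨k, hk, hkx⟩ := hW'K hx
    have h1 : x⁻¹ * k ∈ C := QuotientGroup.eq.1 (hkx.symm : (QuotientGroup.mk x : G ⧸ C) = QuotientGroup.mk k)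
    have h2 := φ.ker.mul_mem hk (φ.ker.inv_mem (hCker h1))
    have h3 : k * (x⁻¹ * k)⁻¹ = x := by group
    rwa [h3] at h2
  have hCW : C ≤ W := by
    intro x hx
    show QuotientGroup.mk' C x ∈ W'
    rw [QuotientGroup.mk'_apply, (QuotientGroup.eq_one_iff x).2 hx]
    exact W'.one_mem
  have hWC : ¬ W ≤ C := by
    intro h
    apply hW'1
    rw [eq_bot_iff]
    intro z hz
    obtain ⟨x, rfl⟩ := QuotientGroup.mk_surjective z
    rw [mem_bot, QuotientGroup.eq_one_iff]
    exact h hz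
  let ρ : G →* MulAut V := MulAut.conjNormal
  have hρ : ∀ (g : G) (v : V), ((ρ g v : V) : G) = g * v * g⁻¹ := fun g v => MulAut.conjNormal_apply g v
  have hρ1 : ∀ g : G, ρ g = 1 → g ∈ centralizer (V : Set G) := by
    intro g hg
    rw [mem_centralizer_iff]
    intro v hv
    have h1 := hρ g ⟨v, hv⟩
    rw [hg] at h1
    have h2 : v = g * v * g⁻¹ := h1
    exact (eq_mul_inv_iff_mul_eq.1 h2)
  have hρ2 : ∀ g ∈ centralizer (V : Set G), ρ g = 1 := by
    intro g hg
    apply MulEquiv.ext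
    intro v
    apply Subtype.ext
    rw [hρ]
    show g * v * g⁻¹ = v
    rw [← mem_centralizer_iff.1 hg v v.2, mul_inv_cancel_right]
  have hρC : ∀ g ∈ C, ρ g = 1 := fun g hg => hρ2 g hg.2
  by_cases hwt : w = t
  · -- the case of a `t`-group
    subst hwt
    let P : Subgroup (MulAut V) := W.map ρ
    have hP : IsPGroup w P := by
      rw [IsPGroup.iff_orderOf]
      rintro ⟨_, ⟨x, hx, rfl⟩⟩
      have h1 : x ^ w ∈ C := by
        rw [← QuotientGroup.eq_one_iff]
        exact hW'w _ hx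
      have h2 : orderOf (⟨ρ x, ⟨x, hx, rfl⟩⟩ : P) ∣ w := orderOf_dvd_of_pow_eq_one (Subtype.ext (by
        show ρ x ^ w = 1
        rw [← map_pow, hρC _ h1]))
      rcases (Nat.dvd_prime ht).1 h2 with h3 | h3
      · exact ⟨0, by rw [h3, pow_zero]⟩
      · exact ⟨1, by rw [h3, pow_one]⟩
    have h1 := hP.card_modEq_card_fixedPoints V
    have h2 : w ∣ Nat.card V := by
      obtain ⟨v, hv⟩ := (Subgroup.ne_bot_iff_exists_ne_one).1 hV1
      have h3 : orderOf v = w := orderOf_eq_prime (Subtype.ext (hVt v v.2)) hv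
      rw [← h3]
      exact orderOf_dvd_natCard v
    have h3 : w ∣ Nat.card (MulAction.fixedPoints P V) := (Nat.modEq_zero_iff_dvd).1 (h1.symm.trans ((Nat.modEq_zero_iff_dvd).2 h2))
    have h4 : 1 < Nat.card (MulAction.fixedPoints P V) := by
      have hne : Nonempty (MulAction.fixedPoints P V) := ⟨⟨1, fun g => map_one (g : MulAut V)⟩⟩
      have h5 : 0 < Nat.card (MulAction.fixedPoints P V) := Nat.card_pos
      exact lt_of_lt_of_le ht.one_lt (Nat.le_of_dvd h5 h3)
    obtain ⟨⟨v, hv⟩, ⟨v', hv'⟩, hne⟩ := (Finite.one_lt_card_iff_nontrivial.1 h4)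
    obtain ⟨u, hu, hu1⟩ : ∃ u ∈ MulAction.fixedPoints P V, u ≠ 1 := by
      by_cases h : v = 1
      · refine ⟨v', hv', fun h' => hne ?_⟩
        exact Subtype.ext (h.trans h'.symm)
      · exact ⟨v, hv, h⟩
    have hF : V ⊓ centralizer (W : Set G) = V := by
      refine hmin _ inferInstance inf_le_left ?_
      intro h
      apply hu1
      have h6 : (u : G) ∈ V ⊓ centralizer (W : Set G) := by
        refine ⟨u.2, mem_centralizer_iff.2 ?_⟩
        intro x hx
        have h7 : ρ x u = u := hu ⟨ρ x, ⟨x, hx, rfl⟩⟩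
        have h8 := congrArg Subtype.val h7
        rw [hρ] at h8
        exact mul_inv_eq_iff_eq_mul.1 h8
      rw [h, mem_bot] at h6
      exact Subtype.ext h6
    apply hWC
    intro x hx
    refine ⟨hWK hx, mem_centralizer_iff.2 ?_⟩
    intro v hv
    rw [← hF] at hv
    exact (mem_centralizer_iff.1 hv.2 x hx).symm
  · -- the case `w ≠ t`
    obtain ⟨x1, hx1⟩ := (Subgroup.ne_bot_iff_exists_ne_one).1 hW'1
    have hx1o : orderOf (x1 : G ⧸ C) = w := orderOf_eq_prime (hW'w _ x1.2) (fun h => hx1 (Subtype.ext h))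
    have hwK : w ∣ Nat.card φ.ker := by
      have h1 : w ∣ Nat.card (φ.ker.map (QuotientGroup.mk' C)) := by
        rw [← hx1o]
        exact Subgroup.orderOf_dvd_natCard _ (hW'K x1.2)
      exact h1.trans (Subgroup.card_map_dvd _ _)
    have hws : w ≠ s := by
      rintro rfl
      exact hsK hwK
    obtain ⟨y0, hy0, hy0s⟩ := exists_lift' φ hφ (y := y) (by
      rw [hy]
      exact (Nat.Prime.coprime_iff_not_dvd hs).2 hsK)
    rw [hy] at hy0s
    have hfix : ∀ v : V, ρ y0 v = v → v = 1 := by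
      intro v hv
      by_contra hv1
      have h1 : orderOf (v : G) = t := orderOf_eq_prime (hVt v v.2) (fun h => hv1 (Subtype.ext h))
      have h2 := congrArg Subtype.val hv
      rw [hρ] at h2
      have h3 : Commute y0 (v : G) := mul_inv_eq_iff_eq_mul.1 h2
      exact hts (order_mem hOm ((Nat.coprime_primes hs ht).2 hst) (dvd_of_eq hy0s.symm) (dvd_of_eq h1.symm) h3)
    have key := comm_of_fpf (V := V) (fun a b => Subtype.ext (hVc a a.2 b b.2)) ht (fun v => Subtype.ext (hVt v v.2))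
      (P := W.map ρ) hwp hs hws hwt
      (by
        rintro _ ⟨x, hx, rfl⟩ _ ⟨x', hx', rfl⟩
        have h1 : (x * x')⁻¹ * (x' * x) ∈ C := by
          rw [← QuotientGroup.eq]
          have h2 := hW'c _ hx _ hx'
          exact h2
        have h2 := hρC _ h1
        rw [map_mul, map_inv, map_mul, map_mul, inv_mul_eq_one] at h2
        exact h2)
      (by
        rintro _ ⟨x, hx, rfl⟩
        have h1 : x ^ w ∈ C := by
          rw [← QuotientGroup.eq_one_iff]
          exact hW'w _ hx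
        rw [← map_pow, hρC _ h1])
      (c := ρ y0) (by rw [← map_pow, ← hy0s, pow_orderOf_eq_one, map_one])
      (by
        rintro _ ⟨x, hx, rfl⟩
        exact ⟨y0 * x * y0⁻¹, hWn.conj_mem x hx y0, by rw [map_mul, map_mul, map_inv]⟩) hfix
    let D : Subgroup G := (centralizer (W' : Set (G ⧸ C))).comap (QuotientGroup.mk' C)
    have hDn : D.Normal := inferInstance
    have hy0D : y0 ∈ D := by
      show QuotientGroup.mk' C y0 ∈ centralizer (W' : Set (G ⧸ C))
      rw [mem_centralizer_iff]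
      intro z hz
      obtain ⟨x, rfl⟩ := QuotientGroup.mk_surjective z
      have hxW : x ∈ W := hz
      have h1 := key (ρ x) ⟨x, hxW, rfl⟩
      have h2 : ρ (x⁻¹ * (y0 * x * y0⁻¹)) = 1 := by
        rw [map_mul, map_mul, map_mul, map_inv, map_inv, h1, inv_mul_cancel]
      have h3 : x⁻¹ * (y0 * x * y0⁻¹) ∈ C :=
        ⟨φ.ker.mul_mem (φ.ker.inv_mem (hWK hxW)) (hWK (hWn.conj_mem x hxW y0)), hρ1 _ h2⟩
      have h4 : (x : G ⧸ C) = ((y0 * x * y0⁻¹ : G) : G ⧸ C) := QuotientGroup.eq.2 h3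
      show (x : G ⧸ C) * (y0 : G ⧸ C) = (y0 : G ⧸ C) * (x : G ⧸ C)
      conv_lhs => rw [h4]
      rw [QuotientGroup.mk_mul, QuotientGroup.mk_mul, QuotientGroup.mk_inv, inv_mul_cancel_right]
    have hSD : S ≤ D.map φ := by
      refine hyS.trans ?_
      have : (D.map φ).Normal := Subgroup.Normal.map hDn φ hφ
      exact normalClosure_le_normal (Set.singleton_subset_iff.2 ⟨y0, hy0D, hy0⟩)
    obtain ⟨z, hz, hzw, hzS, hzOm⟩ := hw w hwp
    have := Fact.mk hz
    obtain ⟨t', ht'⟩ := exists_prime_orderOf_dvd_card' z hzS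
    obtain ⟨d, hdD, hdt⟩ := hSD t'.2
    have h1 : z ∣ orderOf (d : G ⧸ C) := by
      rw [← ht', ← Subgroup.orderOf_coe, ← hdt]
      apply orderOf_dvd_of_pow_eq_one
      have h2 : d ^ orderOf (d : G ⧸ C) ∈ C := by
        rw [← QuotientGroup.eq_one_iff, QuotientGroup.mk_pow, pow_orderOf_eq_one]
      have h3 := hCker h2
      rw [MonoidHom.mem_ker, map_pow] at h3
      exact h3
    refine hzOm (order_mem (om_quot hOm hdvd C) ((Nat.coprime_primes hz hwp).2 hzw) h1 (dvd_of_eq hx1o.symm) ?_)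
    exact (mem_centralizer_iff.1 hdD x1 x1.2).symm

end

end Cfsg.Agent.H403.S88.Grp
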