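import Mathlib
import Cfsg.Agent.H403.S88.GrpA

/-!
# S3588: the solvable radical, continued (helper403)
-/

set_option autoImplicit false
set_option linter.unusedSectionVars false

namespace Cfsg.Agent.H403.S88.Grp

open Subgroup Finset Cfsg.Agent.H229.T

universe u v

/-- the standing assumptions on `A`, the set `Om`, and the simple subgroup `S` -/
structure Base {A : Type v} [Group A] (Om : Set ℕ) (S : Subgroup A) (s : ℕ) (y : A) : Prop where
  dvd : ∀ a b, a ∣ b → b ∈ Om → a ∈ Om
  hs : s.Prime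
  hy : orderOf y = s
  hyS : S ≤ normalClosure {y}
  hub : ∀ w : ℕ, w.Prime → ∃ z : ℕ, z.Prime ∧ z ≠ w ∧ z ∣ Nat.card S ∧ z * w ∉ Om

section

variable {A : Type v} [Group A]

/-- the quotient by a normal subgroup in the kernel -/
theorem quot_step {G : Type u} [Group G] [Finite G] (φ : G →* A) (hφ : Function.Surjective φ)
    (hsol : Group.IsSolvable φ.ker) {V : Subgroup G} [hVn : V.Normal] (hVK : V ≤ φ.ker) :
    ∃ φ' : G ⧸ V →* A, (∀ g : G, φ' (g : G ⧸ V) = φ g) ∧ Function.Surjective φ' ∧ Group.IsSolvable φ'.ker ∧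
      Nat.card φ'.ker * Nat.card V = Nat.card φ.ker := by
  let φ' : G ⧸ V →* A := QuotientGroup.lift V φ hVK
  have h1 : ∀ g : G, φ' (g : G ⧸ V) = φ g := fun g => rfl
  have hker : φ'.ker = φ.ker.map (QuotientGroup.mk' V) := by
    ext z
    obtain ⟨g, rfl⟩ := QuotientGroup.mk_surjective z
    rw [MonoidHom.mem_ker, h1, Subgroup.mem_map]
    constructor
    · intro h
      exact ⟨g, h, rfl⟩
    · rintro ⟨k, hk, hkg⟩
      have h2 : k⁻¹ * g ∈ V := QuotientGroup.eq.1 hkg
      have h3 := hVK h2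
      rw [MonoidHom.mem_ker] at h3 hk
      rw [map_mul, map_inv, hk, inv_one, one_mul] at h3
      exact h3
  refine ⟨φ', h1, ?_, ?_, ?_⟩
  · intro a
    obtain ⟨g, rfl⟩ := hφ a
    exact ⟨g, h1 g⟩
  · rw [hker]
    have := hsol
    exact Group.isSolvable_of_surjective ((QuotientGroup.mk' V).subgroupMap_surjective φ.ker)
  · rw [hker]
    have h2 := Subgroup.card_eq_card_quotient_mul_card_subgroup V
    have h3 := Subgroup.index_map (φ.ker) (QuotientGroup.mk' V)
    rw [QuotientGroup.ker_mk', sup_eq_left.2 hVK, (MonoidHom.range_eq_top.2 (QuotientGroup.mk'_surjective V)),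
      Subgroup.index_top, mul_one] at h3
    have h4 := Subgroup.card_mul_index (φ.ker.map (QuotientGroup.mk' V))
    have h5 := Subgroup.card_mul_index φ.ker
    rw [h3] at h4
    have h6 : 0 < φ.ker.index := Nat.pos_of_ne_zero Subgroup.index_ne_zero_of_finite
    apply Nat.eq_of_mul_eq_mul_right h6
    rw [h5, h2, ← h4]
    ring

/-- **A Frobenius group in `S`.** -/
theorem not_dvd_card {Om : Set ℕ} {S : Subgroup A} {s : ℕ} {y : A} (hb : Base Om S s y) (hSs : IsSimpleGroup S)
    {t : ℕ} (ht : t.Prime) (hst : s ≠ t) (hts : s * t ∉ Om) {Q : Subgroup A} (hQS : Q ≤ S) {c : A}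
    (hn : ∀ a ∈ Q, c * a * c⁻¹ ∈ Q) (hfix : ∀ i, 0 < i → i < orderOf c → ∀ a ∈ Q, c ^ i * a = a * c ^ i → a = 1)
    (hcop : (Nat.card Q).Coprime t) (hQ1 : Q ≠ ⊥) (hct : orderOf c * t ∉ Om) (N : ℕ) :
    ∀ (G : Type u) [Group G] [Finite G] (φ : G →* A), Nat.card G = N → Function.Surjective φ → Group.IsSolvable φ.ker →
      (∀ g : G, orderOf g ∈ Om) → ¬ s ∣ Nat.card φ.ker → ¬ t ∣ Nat.card φ.ker := by
  classical
  induction N using Nat.strong_induction_on with
  | _ N ih =>
  intro G _ _ φ hN hφ hsol hOm hsK htK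
  have := Fact.mk ht
  have hker : φ.ker ≠ ⊥ := by
    intro h
    rw [h, Subgroup.card_bot] at htK
    exact ht.one_lt.ne' (Nat.dvd_one.1 htK)
  obtain ⟨t', V, ht', hVn, hVK, hV1, hVc, hVt, hmin⟩ := exists_min_elem φ.ker hsol hker
  by_cases htt : t' = t
  · subst htt
    have hcen := centralizes φ hφ hsol hOm hb.dvd ht hb.hs hst hsK hts hb.hy hb.hyS hb.hub hVK hV1 hVc hVt hmin
    -- `V` is contained in `zt`
    have hVz : ∀ v ∈ V, v ∈ zt φ.ker t' := fun v hv => ⟨hVK hv, fun k hk => (hcen k hk v hv).symm, hVt v hv⟩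
    obtain ⟨v0, hv0⟩ := (Subgroup.ne_bot_iff_exists_ne_one).1 hV1
    let e := QuotientGroup.quotientKerEquivOfSurjective φ hφ
    have he : ∀ g : G, e (g : G ⧸ φ.ker) = φ g := fun g => rfl
    have he' : ∀ g : G, e.symm (φ g) = (g : G ⧸ φ.ker) := fun g => by rw [← he, MulEquiv.symm_apply_apply]
    let θ : A →* MulAut (zt φ.ker t') := (act φ.ker t').comp e.symm.toMonoidHom
    have hθ : ∀ a, θ a = act φ.ker t' (e.symm a) := fun a => rfl
    have hSact : ¬ ∀ a ∈ S, θ a = 1 := by
      intro h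
      obtain ⟨z, hz, hzt, hzS, hzOm⟩ := hb.hub t' ht
      have := Fact.mk hz
      have hfinA : Finite A := Finite.of_surjective φ hφ
      obtain ⟨x, hx⟩ := exists_prime_orderOf_dvd_card' z hzS
      obtain ⟨g, hg⟩ := hφ x
      have h1 : z ∣ orderOf g := by
        rw [← hx, ← Subgroup.orderOf_coe, ← hg]
        exact orderOf_map_dvd φ g
      have h2 : orderOf (v0 : G) = t' := orderOf_eq_prime (hVt v0 v0.2) (fun h => hv0 (Subtype.ext h))
      have h3 := h x x.2
      have h4 := congrArg (fun f : MulAut (zt φ.ker t') => ((f ⟨v0, hVz v0 v0.2⟩ : zt φ.ker t') : G)) h3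
      simp only [hθ] at h4
      rw [← hg, he', act_mk] at h4
      have h5 : Commute g (v0 : G) := mul_inv_eq_iff_eq_mul.1 h4
      exact hzOm (order_mem hOm ((Nat.coprime_primes hz ht).2 hzt) h1 (dvd_of_eq h2.symm) h5)
    have hQact : ∃ a ∈ Q, ∃ v : zt φ.ker t', θ a v ≠ v := by
      by_contra hcon
      push Not at hcon
      apply hSact
      let T : Subgroup S := (θ.ker).subgroupOf S
      have hTn : T.Normal := inferInstance
      have hT1 : T ≠ ⊥ := by
        intro h
        apply hQ1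
        rw [eq_bot_iff]
        intro a ha
        have h1 : (⟨a, hQS ha⟩ : S) ∈ T := by
          rw [mem_subgroupOf, MonoidHom.mem_ker]
          exact MulEquiv.ext (hcon a ha)
        rw [h, mem_bot] at h1
        exact congrArg Subtype.val h1
      have hT := (hSs.eq_bot_or_eq_top_of_normal T hTn).resolve_left hT1
      intro a ha
      have h1 : (⟨a, ha⟩ : S) ∈ T := by rw [hT]; exact mem_top _
      rwa [mem_subgroupOf, MonoidHom.mem_ker] at h1
    -- transport to `G ⧸ ker`
    let Q' : Subgroup (G ⧸ φ.ker) := Q.map e.symm.toMonoidHom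
    have hfinA : Finite A := Finite.of_surjective φ hφ
    have hQ' : ∀ a, a ∈ Q' ↔ e a ∈ Q := by
      intro a
      constructor
      · rintro ⟨b, hb, rfl⟩
        show e (e.symm b) ∈ Q
        rwa [MulEquiv.apply_symm_apply]
      · intro h
        exact ⟨e a, h, MulEquiv.symm_apply_apply e a⟩
    obtain ⟨x, hx⟩ := exists_dvd_of_frob φ.ker ht Q' (c := e.symm c) (by
        intro a ha
        rw [hQ'] at ha ⊢
        rw [map_mul, map_mul, map_inv, MulEquiv.apply_symm_apply]
        exact hn _ ha) (by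
        intro i hi0 hi a ha hcomm
        rw [hQ'] at ha
        rw [MulEquiv.orderOf_eq] at hi
        have h1 := congrArg e hcomm
        rw [map_mul, map_mul, map_pow, MulEquiv.apply_symm_apply] at h1
        have h2 := hfix i hi0 hi _ ha h1
        exact (MulEquiv.map_eq_one_iff e).1 h2) (by
        have h1 : Nat.card Q' = Nat.card Q := Nat.card_congr (Q.equivMapOfInjective e.symm.toMonoidHom e.symm.injective).symm.toEquiv
        rw [h1]
        exact hcop) (by
        obtain ⟨a, ha, v, hv⟩ := hQact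
        exact ⟨e.symm a, ⟨a, ha, rfl⟩, v, hv⟩)
    rw [MulEquiv.orderOf_eq] at hx
    exact hct (hb.dvd _ _ hx (hOm x))
  · obtain ⟨φ', hφ'1, hφ's, hφ'sol, hφ'c⟩ := quot_step φ hφ hsol hVK
    have := Fact.mk ht'
    have hVp : IsPGroup t' V := by
      rw [IsPGroup.iff_orderOf]
      intro g
      have h2 : orderOf g ∣ t' := orderOf_dvd_of_pow_eq_one (Subtype.ext (hVt g g.2))
      rcases (Nat.dvd_prime ht').1 h2 with h3 | h3
      · exact ⟨0, by rw [h3, pow_zero]⟩
      · exact ⟨1, by rw [h3, pow_one]⟩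
    obtain ⟨k, hk⟩ := IsPGroup.iff_card.1 hVp
    have hV1' : 1 < Nat.card V := (Subgroup.one_lt_card_iff_ne_bot V).2 hV1
    have hlt : Nat.card (G ⧸ V) < N := by
      have h2 := Subgroup.card_eq_card_quotient_mul_card_subgroup V
      have h3 : 0 < Nat.card (G ⧸ V) := Nat.card_pos
      rw [← hN, h2]
      nlinarith
    refine ih _ hlt (G ⧸ V) φ' rfl hφ's hφ'sol (om_quot hOm hb.dvd V) ?_ ?_
    · intro h
      exact hsK (hφ'c ▸ h.mul_right _)
    · rw [← hφ'c] at htK
      rcases ht.dvd_mul.1 htK with h | h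
      · exact h
      · rw [hk] at h
        exact absurd ((Nat.prime_dvd_prime_iff_eq ht ht').1 (ht.dvd_of_dvd_pow h)).symm htt

/-- the order of an extension, in the centralizer of `a` -/
theorem dvd_or_dvd {G : Type u} [Group G] [Finite G] (K : Subgroup G) [K.Normal] {t : ℕ} (ht : t.Prime) (g : G)
    (v : zt K t) (hv : ∏ i ∈ range (orderOf (g : G ⧸ K)), act K t ((g : G ⧸ K) ^ i) v ≠ 1) :
    orderOf (g : G ⧸ K) * t ∣ orderOf g ∨ orderOf (g : G ⧸ K) * t ∣ orderOf ((v : G) * g) := by
  classical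
  have hpt := Fact.mk ht
  set m := orderOf (g : G ⧸ K) with hm
  have hmpos : 0 < m := orderOf_pos _
  have hpow : ∀ k : ℕ, ((v : G) * g) ^ k = ((∏ i ∈ range k, act K t ((g : G ⧸ K) ^ i) v : zt K t) : G) * g ^ k := by
    intro k
    induction k with
    | zero => simp
    | succ k ih =>
      rw [pow_succ, ih, Finset.prod_range_succ, Subgroup.coe_mul, ← QuotientGroup.mk_pow, act_mk, pow_succ]
      group
  set N := ∏ i ∈ range m, act K t ((g : G ⧸ K) ^ i) v with hN
  have key : ∀ w : G, (w : G ⧸ K) = (g : G ⧸ K) → t ∣ orderOf (w ^ m) → m * t ∣ orderOf w := by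
    intro w hw h1
    have h3 : m ∣ orderOf w := by
      rw [hm, ← hw]
      exact orderOf_map_dvd (QuotientGroup.mk' K) w
    rw [orderOf_pow_of_dvd hmpos.ne' h3] at h1
    obtain ⟨k, hk⟩ := h3
    rw [hk, Nat.mul_div_cancel_left _ hmpos] at h1
    rw [hk]
    exact Nat.mul_dvd_mul_left m h1
  by_cases h1 : t ∣ orderOf (g ^ m)
  · exact Or.inl (key g rfl h1)
  · right
    refine key _ ?_ ?_
    · rw [QuotientGroup.mk_mul, (QuotientGroup.eq_one_iff _).2 v.2.1, one_mul]
    · rw [hpow, ← hN]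
      have hgK : g ^ m ∈ K := by
        rw [← QuotientGroup.eq_one_iff, QuotientGroup.mk_pow, hm, pow_orderOf_eq_one]
      have hc : Commute (N : G) (g ^ m) := N.2.2.1 _ hgK
      have hNo : orderOf (N : G) = t := orderOf_eq_prime N.2.2.2 (fun h => hv (Subtype.ext h))
      rw [hc.orderOf_mul_eq_mul_orderOf_of_coprime (by
        rw [hNo]; exact (Nat.Prime.coprime_iff_not_dvd ht).2 h1), hNo]
      exact Nat.dvd_mul_right _ _

/-- the fixed points of an automorphism -/
def fixSub {W : Type u} [CommGroup W] (f : MulAut W) : Subgroup W where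
  carrier := {w | f w = w}
  one_mem' := map_one f
  mul_mem' := fun {a b} ha hb => by
    show f (a * b) = a * b
    rw [map_mul, show f a = a from ha, show f b = b from hb]
  inv_mem' := fun {a} ha => by
    show f a⁻¹ = a⁻¹
    rw [map_inv, show f a = a from ha]

/-- the action of the centralizer on the fixed points -/
def resAct {W : Type u} [CommGroup W] (θ : A →* MulAut W) (α : A) :
    centralizer ({α} : Set A) →* MulAut (fixSub (θ α)) where
  toFun c :=
    { toFun := fun w => ⟨θ c w, by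
        show θ α (θ c w) = θ c w
        have h1 : α * (c : A) = c * α := mem_centralizer_iff.1 c.2 α rfl
        rw [← MulAut.mul_apply, ← map_mul, h1, map_mul, MulAut.mul_apply, show θ α w = w from w.2]⟩
      invFun := fun w => ⟨θ (c : A)⁻¹ w, by
        show θ α (θ (c : A)⁻¹ w) = θ (c : A)⁻¹ w
        have h1 : α * (c : A)⁻¹ = (c : A)⁻¹ * α := mem_centralizer_iff.1 (inv_mem c.2) α rfl
        rw [← MulAut.mul_apply, ← map_mul, h1, map_mul, MulAut.mul_apply, show θ α w = w from w.2]⟩
      left_inv := fun w => Subtype.ext (by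
        show θ (c : A)⁻¹ (θ c w) = w
        rw [← MulAut.mul_apply, ← map_mul, inv_mul_cancel, map_one]; rfl)
      right_inv := fun w => Subtype.ext (by
        show θ (c : A) (θ (c : A)⁻¹ w) = w
        rw [← MulAut.mul_apply, ← map_mul, mul_inv_cancel, map_one]; rfl)
      map_mul' := fun w w' => Subtype.ext (by
        show θ c ((w : W) * w') = θ c w * θ c w'
        rw [map_mul]) }
  map_one' := MulEquiv.ext fun w => Subtype.ext (by
    show θ ((1 : centralizer ({α} : Set A)) : A) w = w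
    rw [Subgroup.coe_one, map_one]; rfl)
  map_mul' := fun c c' => MulEquiv.ext fun w => Subtype.ext (by
    show θ ((c * c' : centralizer ({α} : Set A)) : A) w = θ c (θ c' w)
    rw [Subgroup.coe_mul, map_mul]; rfl)

theorem resAct_coe {W : Type u} [CommGroup W] (θ : A →* MulAut W) (α : A) (c : centralizer ({α} : Set A))
    (w : fixSub (θ α)) : ((resAct θ α c w : fixSub (θ α)) : W) = θ c w := rfl

/-- the condition on the centralizer of an element of order `r` -/
def CBad (C : Type v) [Group C] (Om : Set ℕ) (p r : ℕ) : Prop :=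
  ∀ (W : Type u) [CommGroup W] (θ : C →* MulAut W), (∀ w : W, w ^ p = 1) → (∃ w : W, w ≠ 1) →
    ∃ c : C, Nat.Coprime (orderOf c) r ∧ orderOf c * p * r ∉ Om ∧
      ∃ w : W, ∏ i ∈ range (orderOf c), θ (c ^ i) w ≠ 1

/-- **No element of order `p` of the radical commutes with an element of order `r`.** -/
theorem no_commute {Om : Set ℕ} {S : Subgroup A} {s : ℕ} {y : A} (hb : Base Om S s y) {p r : ℕ} (hp : p.Prime)
    (hr : r.Prime) (hrp : r ≠ p) (hsp : s ≠ p) (hps : s * p ∉ Om) {α : A}
    (hB : CBad.{u} (centralizer ({α} : Set A)) Om p r) (N : ℕ) :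
    ∀ (G : Type u) [Group G] [Finite G] (φ : G →* A), Nat.card G = N → Function.Surjective φ → Group.IsSolvable φ.ker →
      (∀ g : G, orderOf g ∈ Om) → ¬ s ∣ Nat.card φ.ker → ¬ r ∣ Nat.card φ.ker → ∀ a u : G, φ a = α → orderOf a = r →
      u ∈ φ.ker → orderOf u = p → ¬ Commute u a := by
  classical
  induction N using Nat.strong_induction_on with
  | _ N ih =>
  intro G _ _ φ hN hφ hsol hOm hsK hrK a u haα har huK hup hcomm
  have := Fact.mk hp
  have := Fact.mk hr
  have hker : φ.ker ≠ ⊥ := by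
    intro h
    rw [h, mem_bot] at huK
    rw [huK, orderOf_one] at hup
    exact hp.one_lt.ne hup
  obtain ⟨t', V, ht', hVn, hVK, hV1, hVc, hVt, hmin⟩ := exists_min_elem φ.ker hsol hker
  have hfinA : Finite A := Finite.of_surjective φ hφ
  by_cases huV : u ∈ V
  · have htt : t' = p := by
      have h1 : orderOf u ∣ t' := orderOf_dvd_of_pow_eq_one (hVt u huV)
      rw [hup] at h1
      exact ((Nat.prime_dvd_prime_iff_eq hp ht').1 h1).symm
    subst htt
    have hcen := centralizes φ hφ hsol hOm hb.dvd hp hb.hs hsp hsK hps hb.hy hb.hyS hb.hub hVK hV1 hVc hVt hmin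
    let e := QuotientGroup.quotientKerEquivOfSurjective φ hφ
    have he : ∀ g : G, e (g : G ⧸ φ.ker) = φ g := fun g => rfl
    have he' : ∀ g : G, e.symm (φ g) = (g : G ⧸ φ.ker) := fun g => by rw [← he, MulEquiv.symm_apply_apply]
    let θ : A →* MulAut (zt φ.ker t') := (act φ.ker t').comp e.symm.toMonoidHom
    have hθ : ∀ a, θ a = act φ.ker t' (e.symm a) := fun a => rfl
    have hαe : e.symm α = (a : G ⧸ φ.ker) := by rw [← haα, he']
    have huz : u ∈ zt φ.ker t' := ⟨huK, fun k hk => (hcen k hk u huV).symm, hVt u huV⟩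
    have hu1 : u ≠ 1 := by
      rintro rfl
      rw [orderOf_one] at hup
      exact hp.one_lt.ne hup
    have hfixu : θ α ⟨u, huz⟩ = ⟨u, huz⟩ := by
      apply Subtype.ext
      rw [hθ, ← haα, he', act_mk]
      show a * u * a⁻¹ = u
      rw [← hcomm.eq, mul_inv_cancel_right]
    obtain ⟨c, hcr, hcOm, w, hw⟩ := hB (fixSub (θ α)) (resAct θ α) (fun w => Subtype.ext (pow_eq φ.ker t' w.1))
      ⟨⟨⟨u, huz⟩, hfixu⟩, fun h => hu1 (congrArg (fun x : fixSub (θ α) => ((x : zt φ.ker t') : G)) h)⟩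
    -- a lift
    obtain ⟨g, hg, hga⟩ := exists_commute_lift φ.ker hr hrK har (x := e.symm (c : A)) (by
      have h1 : α * (c : A) = c * α := mem_centralizer_iff.1 c.2 α rfl
      have h2 : e.symm (α * (c : A)) = e.symm ((c : A) * α) := congrArg e.symm h1
      rw [map_mul, map_mul] at h2
      show e.symm (c : A) * (a : G ⧸ φ.ker) = (a : G ⧸ φ.ker) * e.symm (c : A)
      rw [← hαe]
      exact h2.symm)
    have hgo : orderOf (g : G ⧸ φ.ker) = orderOf c := by
      rw [hg, MulEquiv.orderOf_eq, Subgroup.orderOf_coe]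
    have hwa : Commute (((w : zt φ.ker t') : G)) a := by
      have h1 : θ α (w : zt φ.ker t') = w := w.2
      have h2 : act φ.ker t' (a : G ⧸ φ.ker) (w : zt φ.ker t') = w := by
        rw [← hαe]
        exact h1
      exact (exists_commute φ.ker h2).symm
    have hnorm : ∏ i ∈ range (orderOf (g : G ⧸ φ.ker)), act φ.ker t' ((g : G ⧸ φ.ker) ^ i) (w : zt φ.ker t') ≠ 1 := by
      intro h
      apply hw
      apply Subtype.ext
      rw [hgo] at h
      have h1 : ((∏ i ∈ range (orderOf c), resAct θ α (c ^ i) w : fixSub (θ α)) : zt φ.ker t') =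
          ∏ i ∈ range (orderOf c), ((resAct θ α (c ^ i) w : fixSub (θ α)) : zt φ.ker t') :=
        map_prod (fixSub (θ α)).subtype _ _
      rw [h1]
      refine Eq.trans ?_ h
      apply Finset.prod_congr rfl
      intro i _
      rw [resAct_coe, hθ, hg]
      congr 2
      rw [← map_pow, SubgroupClass.coe_pow]
    have hfin : ∀ x : G, orderOf (g : G ⧸ φ.ker) * t' ∣ orderOf x → Commute x a → False := by
      intro x hx hxa
      apply hcOm
      rw [hgo] at hx
      exact order_mem hOm (Nat.Coprime.mul_left hcr ((Nat.coprime_primes hp hr).2 hrp.symm)) hx (dvd_of_eq har.symm) hxa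
    rcases dvd_or_dvd φ.ker hp g w hnorm with h | h
    · exact hfin g h hga
    · exact hfin _ h (hwa.mul_left hga)
  · obtain ⟨φ', hφ'1, hφ's, hφ'sol, hφ'c⟩ := quot_step φ hφ hsol hVK
    have hV1' : 1 < Nat.card V := (Subgroup.one_lt_card_iff_ne_bot V).2 hV1
    have hlt : Nat.card (G ⧸ V) < N := by
      have h2 := Subgroup.card_eq_card_quotient_mul_card_subgroup V
      have h3 : 0 < Nat.card (G ⧸ V) := Nat.card_pos
      rw [← hN, h2]
      nlinarith
    refine ih _ hlt (G ⧸ V) φ' rfl hφ's hφ'sol (om_quot hOm hb.dvd V) (fun h => hsK (hφ'c ▸ h.mul_right _))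
      (fun h => hrK (hφ'c ▸ h.mul_right _)) (a : G ⧸ V) (u : G ⧸ V) (by rw [hφ'1, haα]) ?_ ?_ ?_ ?_
    · apply orderOf_eq_prime
      · rw [← QuotientGroup.mk_pow, ← har, pow_orderOf_eq_one, QuotientGroup.mk_one]
      · rw [Ne, QuotientGroup.eq_one_iff]
        intro h
        apply hrK
        rw [← har]
        exact Subgroup.orderOf_dvd_natCard _ (hVK h)
    · rw [MonoidHom.mem_ker, hφ'1]
      exact huK
    · apply orderOf_eq_prime
      · rw [← QuotientGroup.mk_pow, ← hup, pow_orderOf_eq_one, QuotientGroup.mk_one]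
      · rw [Ne, QuotientGroup.eq_one_iff]
        exact huV
    · have h1 : (u : G ⧸ V) * (a : G ⧸ V) = (a : G ⧸ V) * (u : G ⧸ V) := by
        rw [← QuotientGroup.mk_mul, hcomm.eq, QuotientGroup.mk_mul]
      exact h1

/-- **The order of the image.** -/
theorem order_image {G : Type u} [Group G] [Finite G] (φ : G →* A) {p r : ℕ} (hp : p.Prime) (hr : r.Prime)
    (h2K : ¬ 2 ∣ Nat.card φ.ker) (hrK : ¬ r ∣ Nat.card φ.ker)
    (h : ∀ a u : G, orderOf a = r → u ∈ φ.ker → orderOf u = p → ¬ Commute u a) {j b : ℕ} {g : G}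
    (hg : orderOf g = p ^ j * r * 2 ^ b) : orderOf (φ g) = p ^ j * r * 2 ^ b := by
  have hd : orderOf (φ g) ∣ orderOf g := orderOf_map_dvd φ g
  obtain ⟨k, hk⟩ := hd
  have hg0 : 0 < orderOf g := orderOf_pos g
  have hm0 : 0 < orderOf (φ g) := Nat.pos_of_ne_zero (fun h => by rw [h, zero_mul] at hk; omega)
  have hgk : orderOf (g ^ orderOf (φ g)) = k := by
    rw [orderOf_pow_of_dvd hm0.ne' ⟨k, hk⟩, hk, Nat.mul_div_cancel_left _ hm0]
  have hgker : g ^ orderOf (φ g) ∈ φ.ker := by
    rw [MonoidHom.mem_ker, map_pow, pow_orderOf_eq_one]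
  have hkK : k ∣ Nat.card φ.ker := by
    rw [← hgk]
    exact Subgroup.orderOf_dvd_natCard _ hgker
  have hk1 : k = 1 := by
    by_contra hk1
    obtain ⟨w, hw, hwk⟩ := Nat.exists_prime_and_dvd hk1
    have hwg : w ∣ p ^ j * r * 2 ^ b := by
      rw [← hg, hk]
      exact hwk.mul_left _
    have hwp : w = p := by
      rcases hw.dvd_mul.1 hwg with h1 | h1
      · rcases hw.dvd_mul.1 h1 with h3 | h3
        · exact (Nat.prime_dvd_prime_iff_eq hw hp).1 (hw.dvd_of_dvd_pow h3)
        · rw [(Nat.prime_dvd_prime_iff_eq hw hr).1 h3] at hwk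
          exact absurd (hwk.trans hkK) hrK
      · rw [(Nat.prime_dvd_prime_iff_eq hw Nat.prime_two).1 (hw.dvd_of_dvd_pow h1)] at hwk
        exact absurd (hwk.trans hkK) h2K
    subst hwp
    have hrg : r ∣ orderOf g := by
      rw [hg]
      exact (Nat.dvd_mul_left r _).mul_right _
    refine h (g ^ (orderOf g / r)) ((g ^ orderOf (φ g)) ^ (k / w)) ?_ (φ.ker.pow_mem hgker _) ?_ ?_
    · rw [orderOf_pow_of_dvd (Nat.div_pos (Nat.le_of_dvd hg0 hrg) hr.pos).ne' (Nat.div_dvd_of_dvd hrg),
        Nat.div_div_self hrg hg0.ne']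
    · have hk0 : 0 < k := Nat.pos_of_ne_zero (fun h => by rw [h, mul_zero] at hk; omega)
      rw [← hgk] at hwk hk0
      have := orderOf_pow_of_dvd (x := g ^ orderOf (φ g)) (Nat.div_pos (Nat.le_of_dvd hk0 hwk) hw.pos).ne'
        (Nat.div_dvd_of_dvd hwk)
      rw [hgk] at this hwk hk0
      rw [this, Nat.div_div_self hwk hk0.ne']
    · exact (((Commute.refl g).pow_left _).pow_left _).pow_right _
  rw [hk1, mul_one] at hk
  rw [← hk, hg]

end

end Cfsg.Agent.H403.S88.Grp
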