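import Cfsg.Agent.H426.LieEx

/-!
# S3588: interface (helper403)

* `Ty`, `Ty.fam` : the types `C_n`, `B_n`, `D_n`, `²D_n`;
* `Dat p T n k L G` : `L` of type `T`, rank `n ≥ 5`, over the field with `q = p ^ k` elements, `G` with the same element
  orders;
* `Fr p G K S` : the frame: `K` solvable, `S ≤ G / K` simple normal, trivial centralizer, at most one prime of a coclique
  of three primes divides `|K| |G / K : S|`, the odd primes not adjacent to `2` do not divide `|K| |G / K : S|`;
* `Surv T n k f fam` : the groups of Lie type in characteristic `p`, over the field with `p ^ f` elements, surviving the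
  comparison of exponents.
-/

set_option autoImplicit false

namespace Cfsg.Agent.H403.S88

open Cfsg Cfsg.Agent.H414.LieShape Cfsg.Agent.H426.LieFam Cfsg.Agent.H436

/-- the four types -/
inductive Ty
  | c | b | pl | mi

/-- the family -/
def Ty.fam (n : ℕ) : Ty → Fam
  | .c => .psp n
  | .b => .oodd n
  | .pl => .oplus n
  | .mi => .ominus n

/-- `L` is of type `T` and rank `n` over the field with `q = p ^ k` elements, `G` has the same element orders -/
structure Dat (p : ℕ) (T : Ty) (n k : ℕ) (L : Type*) [Group L] (G : Type*) [Group G] : Prop where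
  hp : p.Prime
  hn : 5 ≤ n
  hk : 1 ≤ k
  hL : Fam.Is p k L (T.fam n)
  hsp : ∀ m : ℕ, (∃ g : G, orderOf g = m) ↔ ∃ g : L, orderOf g = m

/-- the frame -/
structure Fr {G : Type*} [Group G] (K : Subgroup G) [K.Normal] (S : Subgroup (G ⧸ K)) : Prop where
  solv : Group.IsSolvable ↥K
  norm : S.Normal
  simple : IsSimpleGroup ↥S
  nonab : ¬ IsMulCommutative ↥S
  cent : Subgroup.centralizer (S : Set (G ⧸ K)) = ⊥
  coc : ∀ a b c : ℕ, a.Prime → b.Prime → c.Prime → a ∣ Nat.card G → b ∣ Nat.card G → c ∣ Nat.card G → a ≠ b → a ≠ c →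
    b ≠ c → (¬ ∃ x : G, orderOf x = a * b) → (¬ ∃ x : G, orderOf x = a * c) → (¬ ∃ x : G, orderOf x = b * c) →
    ¬ (a ∣ Nat.card ↥K * S.index ∧ b ∣ Nat.card ↥K * S.index)
  two : (Nonempty (↥S ≃* alternatingGroup (Fin 7)) ∨
      ∃ (F : Type) (_ : Field F) (_ : Fintype F), Odd (Fintype.card F) ∧
        Nonempty (↥S ≃* Matrix.ProjectiveSpecialLinearGroup (Fin 2) F)) ∨
    ∀ a : ℕ, a.Prime → a ≠ 2 → a ∣ Nat.card G → (¬ ∃ x : G, orderOf x = 2 * a) → ¬ a ∣ Nat.card ↥K ∧ ¬ a ∣ S.index

/-- the survivors of the comparison of exponents -/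
inductive Surv (n k : ℕ) : Ty → ℕ → Fam → Prop
  | c_psp : Surv n k .c k (.psp n)
  | c_oodd : Surv n k .c k (.oodd n)
  | c_psl : Surv n k .c (2 * k) (.psl n)
  | c_oplus : Odd n → Surv n k .c k (.oplus (n + 1))
  | c_ominus : Even n → Surv n k .c k (.ominus n)
  | c_e7 : n = 9 → Surv n k .c k .e7
  | b_psp : Surv n k .b k (.psp n)
  | b_oodd : Surv n k .b k (.oodd n)
  | b_psl : Surv n k .b (2 * k) (.psl n)
  | b_oplus : Odd n → Surv n k .b k (.oplus (n + 1))
  | b_ominus : Even n → Surv n k .b k (.ominus n)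
  | b_e7 : n = 9 → Surv n k .b k .e7
  | p_oplus : Surv n k .pl k (.oplus n)
  | p_psp : Even n → Surv n k .pl k (.psp (n - 1))
  | p_oodd : Even n → Surv n k .pl k (.oodd (n - 1))
  | p_psl : Even n → Surv n k .pl (2 * k) (.psl (n - 1))
  | p_e7 : n = 10 → Surv n k .pl k .e7
  | m_ominus : Surv n k .mi k (.ominus n)
  | m_psp : Even n → Surv n k .mi k (.psp n)
  | m_oodd : Even n → Surv n k .mi k (.oodd n)
  | m_psl : Even n → Surv n k .mi (2 * k) (.psl n)

end Cfsg.Agent.H403.S88
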