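import Cfsg.Agent.H403.S88.Def
import Cfsg.Agent.H150.FarOrthEven
import Cfsg.Agent.LieClassical.FieldTransfer
import Cfsg.Agent.UGT.U2.Rec.Congr

/-!
# S3588: the data from the assumptions of S3588 (helper403)

* `Dat.far` : `G` has an odd prime not joined to `2`;
* `exists_dat`.
-/

set_option autoImplicit false

namespace Cfsg.Agent.H403.S88

open Cfsg Cfsg.Agent.H414.LieShape Cfsg.Agent.H426.LieFam Cfsg.Agent.UGT.U2.Rec.Congr Cfsg.Agent.H150

theorem quadFormPlus_map {F F' : Type*} [Field F] [Field F'] (σ : F ≃+* F') (m : ℕ) (v : Fin m ⊕ Fin m → F) :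
    quadFormPlus m F' (σ ∘ v) = σ (quadFormPlus m F v) := by
  simp [quadFormPlus, map_sum, map_mul]

theorem quadFormMinus_map {F F' : Type*} [Field F] [Field F'] (σ : F ≃+* F') (m : ℕ) (a b : F)
    (v : (Fin m ⊕ Fin m) ⊕ Fin 2 → F) :
    quadFormMinus m F' (σ a) (σ b) (σ ∘ v) = σ (quadFormMinus m F a b v) := by
  simp [quadFormMinus, map_add, map_sum, map_mul, map_pow]

variable {p : ℕ} {T : Ty} {n k : ℕ} {L : Type*} [Group L] {G : Type*} [Group G]

theorem Dat.farL (D : Dat p T n k L G) : Far L := by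
  have hn := D.hn
  have hL := D.hL
  cases T with
  | c =>
    obtain ⟨-, -, F, _, _, _, hF, ⟨e⟩⟩ := hL
    exact Far.congr e.symm (psp_far (by omega) (by omega))
  | b =>
    obtain ⟨-, ho, F, _, _, _, hF, ⟨e⟩⟩ := hL
    exact Far.congr e.symm (pomega_odd_far (by rw [hF]; exact ho) (by omega))
  | pl =>
    obtain ⟨-, F, _, _, _, hF, ⟨e⟩⟩ := hL
    refine Far.congr e.symm ?_
    by_cases h2 : (2 : F) = 0
    · exact plus_far_even h2 (by omega)
    · exact plus_far_odd h2 (by omega)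
  | mi =>
    obtain ⟨-, F, _, _, _, a, b, hF, hab, ⟨e⟩⟩ := hL
    refine Far.congr e.symm ?_
    by_cases h2 : (2 : F) = 0
    · exact minus_far_even h2 (by omega) hab
    · exact minus_far_odd h2 (by omega) hab

theorem dvd_iff {r : ℕ} (hr : r.Prime) [Finite G] [Finite L]
    (h : ∀ m : ℕ, (∃ g : G, orderOf g = m) ↔ ∃ g : L, orderOf g = m) : r ∣ Nat.card G ↔ r ∣ Nat.card L := by
  have := Fact.mk hr
  constructor
  · intro h1
    obtain ⟨x, hx⟩ := exists_prime_orderOf_dvd_card' r h1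
    obtain ⟨y, hy⟩ := (h r).1 ⟨x, hx⟩
    rw [← hy]
    exact orderOf_dvd_natCard y
  · intro h1
    obtain ⟨x, hx⟩ := exists_prime_orderOf_dvd_card' r h1
    obtain ⟨y, hy⟩ := (h r).2 ⟨x, hx⟩
    rw [← hy]
    exact orderOf_dvd_natCard y

theorem Dat.far [Finite G] [Finite L] (D : Dat p T n k L G) :
    ∃ p : ℕ, p.Prime ∧ p ≠ 2 ∧ p ∣ Nat.card G ∧ ¬ ∃ x : G, orderOf x = 2 * p := by
  obtain ⟨r, hr, hr2, hd, hg⟩ := D.farL
  refine ⟨r, hr, hr2, (dvd_iff hr D.hsp).2 hd, fun h => ?_⟩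
  obtain ⟨x, hx⟩ := (D.hsp _).1 h
  exact hg x hx

/-- **The data.** -/
theorem exists_dat {F : Type*} [Field F] [Fintype F] (p : ℕ) [Fact p.Prime] [CharP F p] {m : ℕ} (hm : 5 ≤ m)
    {L : Type*} [Group L] [Finite L]
    (hL : Nonempty (L ≃* Cfsg.PSp m F) ∨ (Odd (Fintype.card F) ∧ Nonempty (L ≃* Cfsg.POmega F (Cfsg.quadFormOdd m F))) ∨
      Nonempty (L ≃* Cfsg.POmega F (Cfsg.quadFormPlus m F)) ∨
      (∃ a b : F, (∀ z₁ z₂ : F, z₁ ^ 2 + a * z₁ * z₂ + b * z₂ ^ 2 = 0 → z₁ = 0 ∧ z₂ = 0) ∧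
        Nonempty (L ≃* Cfsg.POmega F (Cfsg.quadFormMinus (m - 1) F a b))))
    {G : Type*} [Group G] [Finite G] (h : Set.range (orderOf : G → ℕ) = Set.range (orderOf : L → ℕ)) :
    ∃ (T : Ty) (k : ℕ), Dat p T m k L G := by
  have hp : p.Prime := Fact.out
  have hsp : ∀ m : ℕ, (∃ g : G, orderOf g = m) ↔ ∃ g : L, orderOf g = m := fun m => by
    have h1 : m ∈ Set.range (orderOf : G → ℕ) ↔ m ∈ Set.range (orderOf : L → ℕ) := by rw [h]
    exact h1
  obtain ⟨f, -, hf⟩ := FiniteField.card F p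
  have hfin : Fintype (GaloisField p f) := Fintype.ofFinite _
  have hcG : Fintype.card (GaloisField p f) = p ^ (f : ℕ) := by
    rw [← Nat.card_eq_fintype_card, GaloisField.card p _ f.ne_zero]
  have hcard : Fintype.card F = Fintype.card (GaloisField p f) := by rw [hf, hcG]
  let σ : F ≃+* GaloisField p f := FiniteField.ringEquivOfCardEq hcard
  rcases hL with ⟨⟨e⟩⟩ | ⟨ho, ⟨e⟩⟩ | ⟨⟨e⟩⟩ | ⟨a, b, hab, ⟨e⟩⟩
  · refine ⟨.c, f, hp, hm, f.pos, ⟨by omega, by omega, GaloisField p f, inferInstance, inferInstance, inferInstance,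
      hcG, ⟨e.trans (LieClassical.FieldTransfer.pspCongr m σ)⟩⟩, hsp⟩
  · obtain ⟨e'⟩ := nonempty_POmegaOdd σ m
    refine ⟨.b, f, hp, hm, f.pos, ⟨by omega, by rw [← hf]; exact ho, GaloisField p f, inferInstance, inferInstance,
      inferInstance, hcG, ⟨e.trans e'⟩⟩, hsp⟩
  · obtain ⟨e'⟩ := nonempty_POmega σ (quadFormPlus_map σ m)
    refine ⟨.pl, f, hp, hm, f.pos, ⟨by omega, GaloisField p f, inferInstance, inferInstance,
      inferInstance, hcG, ⟨e.trans e'⟩⟩, hsp⟩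
  · obtain ⟨e'⟩ := nonempty_POmega σ (quadFormMinus_map σ (m - 1) a b)
    refine ⟨.mi, f, hp, hm, f.pos, ⟨by omega, GaloisField p f, inferInstance, inferInstance,
      inferInstance, σ a, σ b, hcG, ?_, ⟨e.trans e'⟩⟩, hsp⟩
    intro z₁ z₂ hz
    obtain ⟨w₁, rfl⟩ := σ.surjective z₁
    obtain ⟨w₂, rfl⟩ := σ.surjective z₂
    rw [← map_pow, ← map_mul, ← map_mul, ← map_pow, ← map_mul, ← map_add, ← map_add, map_eq_zero_iff _ σ.injective] at hz
    obtain ⟨h1, h2⟩ := hab w₁ w₂ hz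
    rw [h1, h2, map_zero]
    exact ⟨rfl, rfl⟩

end Cfsg.Agent.H403.S88
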