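import Mathlib
import Cfsg.Agent.H352.Tor
import Cfsg.Agent.H390.Cocl

/-!
# S3588: elements of `PSp_2n(q)`, `q` odd, of order divisible by a prime `r` of a large class (helper403)

* `bJ` : the alternating form; `exists_lin` : linear isometries for the elements of `PSp n F`;
* `Cls q r d E` : `r` an odd prime of class `2 d`, `E = q ^ d + 1`, or of odd class `d`, `E = q ^ d - 1`;
* `Cls.finrank_R`, `Cls.tor` : the commutator space of an element of order `r` and its centralizer.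
-/

set_option autoImplicit false
set_option linter.unusedSectionVars false

namespace Cfsg.Agent.H403.S88

open Module Cfsg Matrix
open Cfsg.Agent.H200.LinFix

section form

variable {F : Type*} [Field F] {n : ℕ}

/-- the alternating form -/
noncomputable def bJ (n : ℕ) (F : Type*) [Field F] : LinearMap.BilinForm F (Fin n ⊕ Fin n → F) :=
  Matrix.toBilin' (Matrix.J (Fin n) F)

theorem bJ_apply (u v : Fin n ⊕ Fin n → F) : bJ n F u v = u ⬝ᵥ (Matrix.J (Fin n) F) *ᵥ v :=
  Matrix.toBilin'_apply' _ _ _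

theorem bJ_isom {A : Matrix (Fin n ⊕ Fin n) (Fin n ⊕ Fin n) F} (hA : A ∈ Matrix.symplecticGroup (Fin n) F) :
    Isom (bJ n F) (Matrix.toLin' A) := by
  intro u v
  have h1 : Aᵀ * Matrix.J (Fin n) F * A = Matrix.J (Fin n) F := (SymplecticGroup.mem_iff').1 hA
  rw [bJ_apply, bJ_apply, Matrix.toLin'_apply, Matrix.toLin'_apply, Matrix.mulVec_mulVec, dotProduct_comm,
    Matrix.dotProduct_mulVec, ← Matrix.mulVec_transpose, dotProduct_comm, Matrix.mulVec_mulVec, ← Matrix.mul_assoc, h1]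

theorem bJ_nondeg (v : Fin n ⊕ Fin n → F) (h : ∀ u, bJ n F u v = 0) : v = 0 := by
  have h1 : (Matrix.J (Fin n) F) *ᵥ v = 0 := by
    funext i
    have h2 := h (Pi.single i 1)
    rw [bJ_apply, single_one_dotProduct] at h2
    exact h2
  have h2 : (Matrix.J (Fin n) F) *ᵥ ((Matrix.J (Fin n) F) *ᵥ v) = 0 := by rw [h1, Matrix.mulVec_zero]
  rw [Matrix.mulVec_mulVec, Matrix.J_squared, Matrix.neg_mulVec, Matrix.one_mulVec, neg_eq_zero] at h2
  exact h2

theorem bJ_alt (h2 : (2 : F) ≠ 0) : (bJ n F).IsAlt := by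
  intro v
  have h1 : bJ n F v v = - bJ n F v v := by
    rw [bJ_apply]
    conv_lhs => rw [Matrix.dotProduct_mulVec, dotProduct_comm, ← Matrix.mulVec_transpose, Matrix.J_transpose,
      Matrix.neg_mulVec, dotProduct_neg]
  have h3 : 2 * bJ n F v v = 0 := by linear_combination h1
  exact (mul_eq_zero.1 h3).resolve_left h2

/-- elements of `PSp` as linear isometries -/
theorem exists_lin (x : PSp n F) : ∃ T : Module.End F (Fin n ⊕ Fin n → F), Isom (bJ n F) T ∧
    ∀ j : ℕ, x ^ j = 1 ↔ (T ^ j = 1 ∨ T ^ j = -1) := by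
  obtain ⟨g, rfl⟩ := QuotientGroup.mk_surjective x
  refine ⟨Matrix.toLin' (g : Matrix (Fin n ⊕ Fin n) (Fin n ⊕ Fin n) F), bJ_isom g.2, fun j => ?_⟩
  have h3 : (Matrix.toLin' (g : Matrix (Fin n ⊕ Fin n) (Fin n ⊕ Fin n) F)) ^ j =
      Matrix.toLin' ((g : Matrix (Fin n ⊕ Fin n) (Fin n ⊕ Fin n) F) ^ j) := (Matrix.toLin'_pow _ j).symm
  have h5 : (-1 : Module.End F (Fin n ⊕ Fin n → F)) = Matrix.toLin' (-1 : Matrix (Fin n ⊕ Fin n) (Fin n ⊕ Fin n) F) := by
    rw [map_neg, Matrix.toLin'_one]; rfl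
  have h6 : (1 : Module.End F (Fin n ⊕ Fin n → F)) = Matrix.toLin' (1 : Matrix (Fin n ⊕ Fin n) (Fin n ⊕ Fin n) F) := by
    rw [Matrix.toLin'_one]; rfl
  rw [h3]
  conv_rhs => rw [h5, h6]
  rw [Matrix.toLin'.injective.eq_iff, Matrix.toLin'.injective.eq_iff, ← QuotientGroup.mk_pow, QuotientGroup.eq_one_iff]
  constructor
  · intro h
    have h1 := ClassicalGeometry.SympInvolutions.center_eq h
    rcases h1 with h1 | h1
    · left
      exact h1
    · right
      exact h1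
  · intro h
    rw [Subgroup.mem_center_iff]
    intro z
    apply Subtype.ext
    show (z : Matrix (Fin n ⊕ Fin n) (Fin n ⊕ Fin n) F) * (g : Matrix (Fin n ⊕ Fin n) (Fin n ⊕ Fin n) F) ^ j =
      (g : Matrix (Fin n ⊕ Fin n) (Fin n ⊕ Fin n) F) ^ j * z
    rcases h with h | h <;> rw [h] <;> simp

end form

section cls

/-- the class of an odd prime -/
structure Cls (q r d E : ℕ) : Prop where
  hr : r.Prime
  hr2 : r ≠ 2
  hrq : ¬ r ∣ q
  hd : 1 ≤ d
  cls : (Ordd r q (2 * d) ∧ E = q ^ d + 1) ∨ (Odd d ∧ Ordd r q d ∧ r ∣ q ^ d - 1 ∧ E = q ^ d - 1)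

theorem ordd_of_orderOf {q r e : ℕ} (hq : 1 ≤ q) (h : orderOf (q : ZMod r) = e) : Ordd r q e := by
  intro m hm
  rw [← h]
  apply orderOf_dvd_of_pow_eq_one
  rw [← ZMod.natCast_eq_zero_iff, Nat.cast_sub (Nat.one_le_pow _ _ hq)] at hm
  push_cast at hm
  exact sub_eq_zero.1 hm

theorem cls_even {q r d : ℕ} (hq : 1 ≤ q) (hd : 2 ≤ d) (hr : r.Prime) (h : orderOf (q : ZMod r) = 2 * d) :
    Cls q r d (q ^ d + 1) := by
  obtain ⟨h2, -, h3, -, -⟩ := H390.prim_cond hr h (by omega)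
  exact ⟨hr, h2, h3, by omega, Or.inl ⟨ordd_of_orderOf hq h, rfl⟩⟩

theorem cls_odd {q r d : ℕ} (hq : 1 ≤ q) (hd : 3 ≤ d) (hdo : Odd d) (hr : r.Prime) (h : orderOf (q : ZMod r) = d) :
    Cls q r d (q ^ d - 1) := by
  obtain ⟨h2, -, h3, -, -⟩ := H390.prim_cond hr h (by omega)
  refine ⟨hr, h2, h3, by omega, Or.inr ⟨hdo, ordd_of_orderOf hq h, ?_, rfl⟩⟩
  rw [← ZMod.natCast_eq_zero_iff, Nat.cast_sub (Nat.one_le_pow _ _ hq), Nat.cast_pow, Nat.cast_one, sub_eq_zero, ← h]
  exact pow_orderOf_eq_one _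

variable {F V : Type*} [Field F] [Finite F] [AddCommGroup V] [Module F V] [Finite V] {b : LinearMap.BilinForm F V}
  {q r d E : ℕ}

theorem Cls.ne (h : Cls (Nat.card F) r d E) : (r : F) ≠ 0 := by
  have : Fintype F := Fintype.ofFinite F
  exact H390.natCast_ne_zero h.hr h.hrq

/-- the dimension of the commutator space -/
theorem Cls.finrank_R (h : Cls (Nat.card F) r d E) {y : Module.End F V} (hy : y ^ r = 1) (hy1 : y ≠ 1)
    (hyb : Isom b y) (hb : ∀ v, (∀ u, b u v = 0) → v = 0) (hle : finrank F (R y) < 4 * d)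
    (hle' : E = Nat.card F ^ d - 1 → finrank F (R y) < 3 * d) : finrank F (R y) = 2 * d := by
  have := Fact.mk h.hr
  have hfd : FiniteDimensional F V := inferInstance
  have h0 : 0 < finrank F (R y) := by
    rw [Nat.pos_iff_ne_zero, Ne, Submodule.finrank_eq_zero]
    exact R_ne_bot hy1
  rcases h.cls with ⟨hd, -⟩ | ⟨hdo, hd, hrd, hEd⟩
  · obtain ⟨c, hc⟩ := dvd_finrank_R hd h.ne hy
    have hc1 : c < 2 := by
      by_contra hc2
      have : 2 * d * 2 ≤ 2 * d * c := Nat.mul_le_mul_left _ (by omega)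
      omega
    have hc0 : c ≠ 0 := by
      rintro rfl
      omega
    have : c = 1 := by omega
    rw [hc, this, mul_one]
  · obtain ⟨c, hc⟩ := dvd_finrank_R hd h.ne hy
    have hc3 : c < 3 := by
      by_contra hc2
      have h1 : d * 3 ≤ d * c := Nat.mul_le_mul_left _ (by omega)
      have h2 := hle' hEd
      omega
    have hc0 : c ≠ 0 := by
      rintro rfl
      omega
    have hc1 : c ≠ 1 := by
      rintro rfl
      have hd0 := hdo.pos
      have hirr : Irr y (R y) := irr_of_lt hd h.ne hy le_rfl (fun w hw => R_inv rfl hw) (by omega)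
      have h1 := even_of_irr h.hr2 h.ne hy le_rfl (fun w hw => R_inv rfl hw) hirr (R_ne_bot hy1) b
        (fun u _ v _ => hyb u v) (fun v hv hu => nondeg_R hyb hb hy h.ne hv hu)
      rw [hc, mul_one] at h1
      exact (Nat.not_even_iff_odd.2 hdo) h1
    have : c = 2 := by omega
    rw [hc, this]
    ring

/-- the centralizer on the commutator space -/
theorem Cls.tor (h : Cls (Nat.card F) r d E) {y : Module.End F V} (hy : y ^ r = 1)
    (hyb : Isom b y) (hb : ∀ v, (∀ u, b u v = 0) → v = 0) (hfr : finrank F (R y) = 2 * d) {s : Module.End F V}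
    (hsb : Isom b s) (hsy : s * y = y * s) : ∀ w ∈ R y, (s ^ E) w = w := by
  have := Fact.mk h.hr
  rcases h.cls with ⟨hd, rfl⟩ | ⟨hdo, hd, hrd, rfl⟩
  · exact Cfsg.Agent.H352.Tor.tor_even h.hr2 h.ne hy hyb hb h.hd hd hfr hsb hsy
  · exact Cfsg.Agent.H352.Tor.tor_odd h.hr2 h.ne hy hyb hb hd hrd hdo hfr hsb hsy

theorem Isom.pow {g : Module.End F V} (hg : Isom b g) (k : ℕ) : Isom b (g ^ k) := by
  induction k with
  | zero => intro u v; rfl
  | succ k ih => rw [pow_succ]; exact ih.mul hg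

/-- powers of a map with `(T ^ j = ± 1) ↔ N ∣ j` -/
theorem prime_part {T : Module.End F V} {N : ℕ} (hN : 0 < N) (hT : ∀ j : ℕ, (T ^ j = 1 ∨ T ^ j = -1) ↔ N ∣ j) {r : ℕ}
    (hr : r.Prime) (hr2 : r ≠ 2) (hrN : r ∣ N) : (T ^ (2 * (N / r))) ^ r = 1 ∧ T ^ (2 * (N / r)) ≠ 1 := by
  obtain ⟨k, rfl⟩ := hrN
  rw [Nat.mul_div_cancel_left _ hr.pos]
  have hk : 0 < k := Nat.pos_of_mul_pos_left hN |> fun _ => Nat.pos_of_ne_zero (by rintro rfl; omega)
  constructor
  · rw [← pow_mul, show 2 * k * r = (r * k) * 2 by ring, pow_mul]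
    rcases (hT (r * k)).2 dvd_rfl with h | h <;> rw [h]
    · exact one_pow 2
    · exact neg_one_sq
  · intro h
    have h1 := (hT _).1 (Or.inl h)
    have h2 : r ∣ 2 := Nat.dvd_of_mul_dvd_mul_right hk h1
    exact hr2 ((Nat.prime_dvd_prime_iff_eq hr Nat.prime_two).1 h2)

/-- `T ^ a = T ^ b = 1` on an invariant set gives `T ^ gcd = 1` -/
theorem fix_gcd {T : Module.End F V} {w : V} {a c : ℕ} (h1 : (T ^ a) w = w) (h2 : (T ^ c) w = w) :
    (T ^ Nat.gcd a c) w = w := by
  induction a, c using Nat.gcd.induction with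
  | H0 c => rwa [Nat.gcd_zero_left]
  | H1 a c ha ih =>
    rw [Nat.gcd_rec]
    refine ih ?_ h1
    have h3 : ∀ k : ℕ, (T ^ (a * k)) w = w := by
      intro k
      induction k with
      | zero => simp
      | succ k ih => rw [mul_add, mul_one, pow_add, Module.End.mul_apply, h1, ih]
    have h4 : (T ^ c) w = (T ^ (c % a)) ((T ^ (a * (c / a))) w) := by
      rw [← Module.End.mul_apply, ← pow_add, Nat.mod_add_div]
    rw [h3] at h4
    rw [← h4]
    exact h2

theorem fix_dvd {T : Module.End F V} {w : V} {a c : ℕ} (h1 : (T ^ a) w = w) (h : a ∣ c) : (T ^ c) w = w := by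
  obtain ⟨k, rfl⟩ := h
  induction k with
  | zero => simp
  | succ k ih => rw [mul_add, mul_one, pow_add, Module.End.mul_apply, h1, ih]

end cls

end Cfsg.Agent.H403.S88
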