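import Mathlib
import Cfsg.Agent.H403.S88.LSideA

/-!
# S3588: orders of elements of `PSp_2n(q)`, `q` odd (helper403)

`y` a power of `T` of prime order `r`, class `d`, `dim R y = 2 d`, `dim K y = 2 (n - d)`.
-/

set_option autoImplicit false
set_option linter.unusedSectionVars false

namespace Cfsg.Agent.H403.S88

open Module Cfsg Matrix
open Cfsg.Agent.H200.LinFix

section lin

variable {F V : Type*} [Field F] [Finite F] [AddCommGroup V] [Module F V] [Finite V] {b : LinearMap.BilinForm F V}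

/-- a nontrivial map of order `p` on a plane: its centralizer -/
theorem plane {p : ℕ} [Fact p.Prime] [CharP F p] {W : Submodule F V} (hW : finrank F W = 2)
    (hWb : ∀ v ∈ W, (∀ u ∈ W, b u v = 0) → v = 0) {u T : Module.End F V} (hu : ∀ w ∈ W, u w ∈ W)
    (hT : ∀ w ∈ W, T w ∈ W) (hTb : Isom b T) (hcomm : ∀ w ∈ W, T (u w) = u (T w)) (hup : ∀ w ∈ W, (u ^ p) w = w)
    (hu1 : ∃ w ∈ W, u w ≠ w) : ∀ w ∈ W, (T ^ (2 * p)) w = w := by
  have hp : p.Prime := Fact.out
  have hfd : FiniteDimensional F V := inferInstance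
  -- the restrictions
  let u' : Module.End F W := u.restrict hu
  let T' : Module.End F W := T.restrict hT
  have hu'c : ∀ w : W, ((u' w : W) : V) = u w := fun w => rfl
  have hT'c : ∀ w : W, ((T' w : W) : V) = T w := fun w => rfl
  have hcomm' : Commute T' u' := LinearMap.ext fun w => Subtype.ext (hcomm w w.2)
  have hpow : ∀ (f : Module.End F V) (hf : ∀ w ∈ W, f w ∈ W) (k : ℕ) (w : W), ((((f.restrict hf) ^ k) w : W) : V) = (f ^ k) w := by
    intro f hf k
    induction k with
    | zero => intro w; rfl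
    | succ k ih =>
      intro w
      rw [pow_succ, pow_succ, Module.End.mul_apply, Module.End.mul_apply, ih]
      rfl
  have hu'p : u' ^ p = 1 := LinearMap.ext fun w => Subtype.ext (by rw [hpow]; exact hup w w.2)
  set ν : Module.End F W := u' - 1 with hν
  have hWnt : Nontrivial W := Module.nontrivial_of_finrank_pos (R := F) (by omega)
  have hEnt : Nontrivial (Module.End F W) := Module.End.instNontrivial
  have hchar : CharP (Module.End F W) p := charP_of_injective_algebraMap (algebraMap F (Module.End F W)).injective p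
  have hνp : ν ^ p = 0 := by
    have hc : Commute u' (1 : Module.End F W) := Commute.one_right u'
    rw [hν, sub_pow_char_of_commute p hc, hu'p, one_pow, sub_self]
  have hν2 : ν ^ 2 = 0 := by
    have h1 : ν ^ finrank F W = 0 := H390.pow_finrank_eq_zero ⟨p, hνp⟩
    rwa [hW] at h1
  have hν0 : ν ≠ 0 := by
    intro h
    obtain ⟨w, hw, hw1⟩ := hu1
    apply hw1
    have h1 := LinearMap.congr_fun h ⟨w, hw⟩
    have h2 := congrArg Subtype.val h1
    have h3 : u w - w = 0 := h2
    exact sub_eq_zero.1 h3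
  obtain ⟨f, hf⟩ : ∃ f, ν f ≠ 0 := by
    by_contra hcon
    push Not at hcon
    exact hν0 (LinearMap.ext hcon)
  have hνT : Commute T' ν := by
    rw [hν]
    exact hcomm'.sub_right (Commute.one_right T')
  have hνν : ν (ν f) = 0 := by
    have := LinearMap.congr_fun hν2 f
    rwa [pow_two, Module.End.mul_apply] at this
  -- `f`, `ν f` is a basis
  have hli : LinearIndependent F ![f, ν f] := by
    rw [LinearIndependent.pair_iff]
    intro s t h
    have h1 := congrArg ν h
    rw [map_add, map_smul, map_smul, hνν, smul_zero, add_zero, map_zero] at h1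
    have hs : s = 0 := (smul_eq_zero.1 h1).resolve_right hf
    rw [hs, zero_smul, zero_add] at h
    exact ⟨hs, (smul_eq_zero.1 h).resolve_right hf⟩
  have hspan : ∀ w : W, ∃ s t : F, w = s • f + t • ν f := by
    have h1 : Submodule.span F (Set.range ![f, ν f]) = ⊤ := by
      apply hli.span_eq_top_of_card_eq_finrank'
      rw [hW]
      rfl
    intro w
    have h2 : w ∈ Submodule.span F (Set.range ![f, ν f]) := by rw [h1]; exact Submodule.mem_top
    rw [Matrix.range_cons, Matrix.range_cons, Matrix.range_empty, Set.union_empty, Set.singleton_union,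
      Submodule.mem_span_pair] at h2
    obtain ⟨s, t, h3⟩ := h2
    exact ⟨s, t, h3.symm⟩
  obtain ⟨α, β, hα⟩ := hspan (T' f)
  have hTν : T' (ν f) = ν (T' f) := LinearMap.congr_fun hνT f
  have hTeq : T' = α • (1 : Module.End F W) + β • ν := by
    apply LinearMap.ext
    intro w
    obtain ⟨s, t, rfl⟩ := hspan w
    rw [map_add, map_smul, map_smul, hTν, hα]
    simp only [map_add, map_smul, LinearMap.add_apply, LinearMap.smul_apply, Module.End.one_apply, hνν, smul_zero,
      add_zero, smul_add, smul_smul, mul_comm]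
  have hTp : T' ^ p = (α ^ p) • (1 : Module.End F W) := by
    have hc : Commute (α • (1 : Module.End F W)) (β • ν) := by
      refine LinearMap.ext fun w => ?_
      simp only [Module.End.mul_apply, LinearMap.smul_apply, Module.End.one_apply, map_smul, smul_smul, mul_comm]
    rw [hTeq, add_pow_char_of_commute p hc, smul_pow, smul_pow, one_pow, hνp, smul_zero, add_zero]
  -- the scalar
  have hTpb : Isom b (T ^ p) := Isom.pow hTb p
  have hsc : α ^ p * α ^ p = 1 := by
    have h1 : ∀ w ∈ W, (T ^ p) w = (α ^ p) • w := by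
      intro w hw
      have h2 := congrArg Subtype.val (LinearMap.congr_fun hTp ⟨w, hw⟩)
      rw [hpow] at h2
      exact h2
    obtain ⟨w, hw, hw0⟩ : ∃ w ∈ W, b w f ≠ 0 := by
      by_contra hcon
      push Not at hcon
      have h3 := hWb f f.2 hcon
      apply hf
      have h4 : f = 0 := Subtype.ext h3
      rw [h4, map_zero]
    have h5 := hTpb w f
    rw [h1 w hw, h1 f f.2] at h5
    simp only [map_smul, LinearMap.smul_apply, smul_eq_mul] at h5
    have h6 : (α ^ p * α ^ p - 1) * b w f = 0 := by linear_combination h5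
    exact sub_eq_zero.1 ((mul_eq_zero.1 h6).resolve_right hw0)
  intro w hw
  have h1 : ∀ w ∈ W, (T ^ p) w = (α ^ p) • w := by
    intro w hw
    have h2 := congrArg Subtype.val (LinearMap.congr_fun hTp ⟨w, hw⟩)
    rw [hpow] at h2
    exact h2
  rw [two_mul, pow_add, Module.End.mul_apply, h1 w hw, map_smul, h1 w hw, smul_smul, hsc, one_smul]

theorem comm_pow (T : Module.End F V) (i k : ℕ) : T ^ i * T ^ k = T ^ k * T ^ i := by
  rw [← pow_add, ← pow_add, add_comm]

/-- the space is the sum -/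
theorem eq_one_of_KR {r : ℕ} {y S : Module.End F V} (hy : y ^ r = 1) (hr : (r : F) ≠ 0)
    (hK : ∀ w ∈ K y, S w = w) (hR : ∀ w ∈ R y, S w = w) : S = 1 := by
  refine LinearMap.ext fun v => ?_
  have hfd : FiniteDimensional F V := inferInstance
  obtain ⟨k, hk, r, hr, rfl⟩ := decomp hy hr v
  rw [map_add, hK k hk, hR r hr]
  rfl

variable {N r d E : ℕ} {T : Module.End F V}

theorem fix_coprime {T : Module.End F V} {w : V} {a c : ℕ} (h : Nat.Coprime a c) (h1 : (T ^ a) w = w)
    (h2 : (T ^ c) w = w) : T w = w := by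
  have h3 := fix_gcd h1 h2
  rwa [h, pow_one] at h3

/-- the data of an element of order divisible by `r` -/
structure Dec (b : LinearMap.BilinForm F V) (T : Module.End F V) (N r d E : ℕ) (y : Module.End F V) : Prop where
  hy : y ^ r = 1
  hy1 : y ≠ 1
  hyb : Isom b y
  fr : finrank F (R y) = 2 * d
  tor : ∀ k : ℕ, ∀ w ∈ R y, ((T ^ k) ^ E) w = w
  invR : ∀ k : ℕ, ∀ w ∈ R y, (T ^ k) w ∈ R y
  invK : ∀ k : ℕ, ∀ w ∈ K y, (T ^ k) w ∈ K y

theorem exists_dec (hb : ∀ v, (∀ u, b u v = 0) → v = 0) (hTb : Isom b T) (hN : 0 < N)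
    (hT : ∀ j : ℕ, (T ^ j = 1 ∨ T ^ j = -1) ↔ N ∣ j) (hc : Cls (Nat.card F) r d E) (hrN : r ∣ N)
    (hle : finrank F V < 4 * d) (hle' : E = Nat.card F ^ d - 1 → finrank F V < 3 * d) :
    Dec b T N r d E (T ^ (2 * (N / r))) := by
  have hfd : FiniteDimensional F V := inferInstance
  obtain ⟨hy, hy1⟩ := prime_part hN hT hc.hr hc.hr2 hrN
  have hyb : Isom b (T ^ (2 * (N / r))) := Isom.pow hTb _
  have hR : finrank F (R (T ^ (2 * (N / r)))) ≤ finrank F V := Submodule.finrank_le _
  have hfr := hc.finrank_R hy hy1 hyb hb (by omega) (fun h => by have := hle' h; omega)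
  exact ⟨hy, hy1, hyb, hfr, fun k => hc.tor hy hyb hb hfr (Isom.pow hTb k) (comm_pow T _ _),
    fun k w hw => R_inv (comm_pow T _ _) hw, fun k w hw => K_inv (comm_pow T _ _) hw⟩

/-- **`c = 1`: orders divisible by `p r`.** -/
theorem dvd_pE {p : ℕ} [Fact p.Prime] [CharP F p] (hp2 : p ≠ 2) (hb : ∀ v, (∀ u, b u v = 0) → v = 0)
    (hTb : Isom b T) (hN : 0 < N) (hT : ∀ j : ℕ, (T ^ j = 1 ∨ T ^ j = -1) ↔ N ∣ j) {n : ℕ} (hn : 4 ≤ n)
    (hV : finrank F V = 2 * n) (hc : Cls (Nat.card F) r (n - 1) E) (hE2 : 2 ∣ E) (hEp : ¬ p ∣ E)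
    (hrN : r ∣ N) (hpN : p ∣ N) : N ∣ p * E := by
  have hp : p.Prime := Fact.out
  have hfd : FiniteDimensional F V := inferInstance
  have D := exists_dec hb hTb hN hT hc hrN (by rw [hV]; omega) (fun _ => by rw [hV]; omega)
  set y := T ^ (2 * (N / r)) with hydef
  obtain ⟨hu, hu1⟩ := prime_part hN hT hp hp2 hpN
  set u := T ^ (2 * (N / p)) with hudef
  have huR : ∀ w ∈ R y, u w = w := fun w hw =>
    fix_coprime ((Nat.Prime.coprime_iff_not_dvd hp).2 hEp) (by rw [hu]; rfl) (D.tor _ w hw)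
  have hK2 : finrank F (K y) = 2 := by
    have := finrank_add y
    rw [D.fr, hV] at this
    omega
  have huK : ∃ w ∈ K y, u w ≠ w := by
    by_contra hcon
    push Not at hcon
    exact hu1 (eq_one_of_KR D.hy hc.ne hcon huR)
  have hpl := plane (b := b) (p := p) (W := K y) hK2 (fun v hv h => nondeg_K D.hyb hb D.hy hc.ne hv h) (u := u) (T := T)
    (D.invK _) (fun w hw => by have := D.invK 1 w hw; rwa [pow_one] at this) hTb
    (fun w _ => by
      have := LinearMap.congr_fun (comm_pow T 1 (2 * (N / p))) w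
      rwa [pow_one] at this)
    (fun w _ => by rw [hu]; rfl) huK
  apply (hT _).1
  left
  refine eq_one_of_KR D.hy hc.ne (fun w hw => fix_dvd (hpl w hw) ?_) (fun w hw => ?_)
  · rw [mul_comm 2 p]
    exact Nat.mul_dvd_mul_left p hE2
  · have h1 := D.tor 1 w hw
    rw [pow_one] at h1
    exact fix_dvd h1 (Nat.dvd_mul_left _ _)

/-- **No elements of order `p t r`.** -/
theorem no_ptr {p : ℕ} [Fact p.Prime] [CharP F p] (hp2 : p ≠ 2) (hb : ∀ v, (∀ u, b u v = 0) → v = 0)
    (hTb : Isom b T) (hN : 0 < N) (hT : ∀ j : ℕ, (T ^ j = 1 ∨ T ^ j = -1) ↔ N ∣ j) {c t E' : ℕ}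
    (hcd : c < d) (hV : finrank F V = 2 * (c + d)) (hc : Cls (Nat.card F) r d E) (hdo : E = Nat.card F ^ d - 1 → 2 * c < d)
    (hc' : Cls (Nat.card F) t c E') (hEp : ¬ p ∣ E) (hEp' : ¬ p ∣ E') (htE : ¬ t ∣ E) (hrN : r ∣ N) (hpN : p ∣ N)
    (htN : t ∣ N) : False := by
  have hp : p.Prime := Fact.out
  have hfd : FiniteDimensional F V := inferInstance
  have D := exists_dec hb hTb hN hT hc hrN (by rw [hV]; omega) (fun h => by rw [hV]; have := hdo h; omega)
  set y := T ^ (2 * (N / r)) with hydef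
  obtain ⟨hu, hu1⟩ := prime_part hN hT hp hp2 hpN
  set u := T ^ (2 * (N / p)) with hudef
  obtain ⟨hx, hx1⟩ := prime_part hN hT hc'.hr hc'.hr2 htN
  set x := T ^ (2 * (N / t)) with hxdef
  have huR : ∀ w ∈ R y, u w = w := fun w hw =>
    fix_coprime ((Nat.Prime.coprime_iff_not_dvd hp).2 hEp) (by rw [hu]; rfl) (D.tor _ w hw)
  have hxR : ∀ w ∈ R y, x w = w := fun w hw =>
    fix_coprime ((Nat.Prime.coprime_iff_not_dvd hc'.hr).2 htE) (by rw [hx]; rfl) (D.tor _ w hw)
  have hKc : finrank F (K y) = 2 * c := by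
    have := finrank_add y
    rw [D.fr, hV] at this
    omega
  have hRK : R x ≤ K y := by
    rintro _ ⟨v, rfl⟩
    obtain ⟨k, hk, r, hr, rfl⟩ := decomp D.hy hc.ne v
    have h1 : (x - 1) (k + r) = x k - k := by
      rw [map_add, LinearMap.sub_apply, LinearMap.sub_apply, Module.End.one_apply, Module.End.one_apply, hxR r hr,
        sub_self, add_zero]
    rw [h1]
    exact (K y).sub_mem (D.invK _ k hk) hk
  have hle : finrank F (R x) ≤ 2 * c := by
    rw [← hKc]
    exact Submodule.finrank_mono hRK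
  have hc1 := hc'.hd
  have hxb : Isom b x := Isom.pow hTb _
  have hfx := hc'.finrank_R hx hx1 hxb hb (by omega) (fun _ => by omega)
  have hRKe : R x = K y := Submodule.eq_of_le_of_finrank_eq hRK (by rw [hfx, hKc])
  have huK : ∀ w ∈ K y, u w = w := fun w hw => by
    rw [← hRKe] at hw
    exact fix_coprime ((Nat.Prime.coprime_iff_not_dvd hp).2 hEp') (by rw [hu]; rfl)
      (hc'.tor hx hxb hb hfx (s := u) (Isom.pow hTb _) (comm_pow T _ _) w hw)
  exact hu1 (eq_one_of_KR D.hy hc.ne huK huR)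

end lin

section two

/-- the 2-part of `E` -/
theorem two_part {q d E j a : ℕ} (hq : Odd q) (hq1 : 1 < q) (hj : 1 ≤ j) (ha : 2 ^ a ∣ q ^ 2 ^ j - 1)
    (ha' : ¬ 2 ^ (a + 1) ∣ q ^ 2 ^ j - 1) (hE : E = q ^ d + 1 ∨ (Odd d ∧ E = q ^ d - 1)) : ¬ 2 ^ a ∣ E := by
  have h1q : ∀ k, 1 ≤ q ^ k := fun k => Nat.one_le_pow _ _ (by omega)
  have hsq : q ^ 2 - 1 ∣ q ^ 2 ^ j - 1 := by
    have h1 : q ^ 2 ^ j = (q ^ 2) ^ 2 ^ (j - 1) := by
      rw [← pow_mul, ← pow_succ']
      congr 2
      omega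
    rw [h1]
    have := Nat.sub_dvd_pow_sub_pow (q ^ 2) 1 (2 ^ (j - 1))
    rwa [one_pow] at this
  have hfac : q ^ 2 - 1 = (q + 1) * (q - 1) := by
    have := Nat.sq_sub_sq q 1
    rwa [one_pow] at this
  -- neither `q + 1` nor `q - 1`
  have hne : ¬ 2 ^ a ∣ q + 1 ∧ ¬ 2 ^ a ∣ q - 1 := by
    obtain ⟨k, hk⟩ := hq
    constructor
    · intro h
      apply ha'
      refine Dvd.dvd.trans ?_ hsq
      rw [hfac, pow_succ]
      exact Nat.mul_dvd_mul h ⟨k, by omega⟩
    · intro h
      apply ha'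
      refine Dvd.dvd.trans ?_ hsq
      rw [hfac, pow_succ, mul_comm (2 ^ a) 2]
      exact Nat.mul_dvd_mul ⟨k + 1, by omega⟩ h
  have hcast : ∀ k : ℕ, ((q ^ k - 1 : ℕ) : ZMod (2 ^ a)) = (q : ZMod (2 ^ a)) ^ k - 1 := by
    intro k
    rw [Nat.cast_sub (h1q k)]
    push_cast
    rfl
  have h2j : (q : ZMod (2 ^ a)) ^ 2 ^ j = 1 := by
    have := (ZMod.natCast_eq_zero_iff _ _).2 ha
    rw [hcast] at this
    exact sub_eq_zero.1 this
  intro hEa
  rcases hE with rfl | ⟨hdo, rfl⟩
  · rcases Nat.even_or_odd d with hde | hdo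
    · -- `d` even
      obtain ⟨m, rfl⟩ := hde
      have h4 : q ^ (m + m) % 4 = 1 := by
        have h5 : q ^ (m + m) = (q ^ m) * (q ^ m) := by rw [pow_add]
        have h6 : Odd (q ^ m) := hq.pow
        obtain ⟨k, hk⟩ := h6
        rw [h5, hk]
        have : (2 * k + 1) * (2 * k + 1) = 4 * (k * k + k) + 1 := by ring
        rw [this]
        omega
      have ha1 : a ≤ 1 := by
        by_contra h
        have h7 : 4 ∣ 2 ^ a := by
          obtain ⟨c, rfl⟩ : ∃ c, a = 2 + c := ⟨a - 2, by omega⟩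
          rw [pow_add]
          exact Dvd.intro _ rfl
        have := h7.trans hEa
        omega
      apply ha'
      refine (pow_dvd_pow 2 (show a + 1 ≤ 3 by omega)).trans (Dvd.dvd.trans ?_ hsq)
      obtain ⟨k, rfl⟩ := hq
      have h8 : (2 * k + 1) ^ 2 - 1 = 4 * (k * (k + 1)) := by
        have : (2 * k + 1) ^ 2 = 4 * (k * (k + 1)) + 1 := by ring
        omega
      rw [h8]
      obtain ⟨c, hc⟩ := Nat.even_mul_succ_self k
      rw [hc]
      exact ⟨c, by ring⟩
    · -- `d` odd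
      apply hne.1
      have h5 : (-(q : ZMod (2 ^ a))) ^ d = 1 := by
        have h6 := (ZMod.natCast_eq_zero_iff _ _).2 hEa
        push_cast at h6
        rw [hdo.neg_pow]
        linear_combination -h6
      have h6 : (-(q : ZMod (2 ^ a))) ^ 2 ^ j = 1 := by
        rw [Even.neg_pow ((Nat.even_pow.2 ⟨even_two, by omega⟩)), h2j]
      have h7 : Nat.gcd d (2 ^ j) = 1 := Nat.Coprime.pow_right j (Nat.coprime_two_right.2 hdo)
      have h8 := Nat.dvd_gcd (orderOf_dvd_of_pow_eq_one h5) (orderOf_dvd_of_pow_eq_one h6)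
      rw [h7, Nat.dvd_one, orderOf_eq_one_iff] at h8
      rw [← ZMod.natCast_eq_zero_iff]
      push_cast
      linear_combination -h8
  · apply hne.2
    have h5 : (q : ZMod (2 ^ a)) ^ d = 1 := by
      have h6 := (ZMod.natCast_eq_zero_iff _ _).2 hEa
      rw [hcast] at h6
      exact sub_eq_zero.1 h6
    have h7 : Nat.gcd d (2 ^ j) = 1 := Nat.Coprime.pow_right j (Nat.coprime_two_right.2 hdo)
    have h8 := Nat.dvd_gcd (orderOf_dvd_of_pow_eq_one h5) (orderOf_dvd_of_pow_eq_one h2j)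
    rw [h7, Nat.dvd_one, orderOf_eq_one_iff] at h8
    rw [← ZMod.natCast_eq_zero_iff, Nat.cast_sub (by omega), h8]
    simp

end two

end Cfsg.Agent.H403.S88
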