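import Mathlib
import Cfsg.Agent.H403.S88.LSideB
import Cfsg.Agent.H415.SpTwo
import Cfsg.Agent.H497.Spec.UnipTor

/-!
# S3588: element orders of `PSp_2n(q)`, `q` odd (helper403)
-/

set_option autoImplicit false
set_option linter.unusedSectionVars false

namespace Cfsg.Agent.H403.S88

open Module Cfsg Matrix
open Cfsg.Agent.H200.LinFix

/-- divisors of `r 2 ^ (a + 1)` not divisible by `2 ^ a` -/
theorem gcd_dvd {r a g : ℕ} (hg : g ∣ r * 2 ^ (a + 1)) (h : ¬ 2 ^ a ∣ g) : g ∣ r * 2 ^ (a - 1) := by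
  obtain ⟨g1, g2, h1, h2, rfl⟩ := exists_dvd_and_dvd_of_dvd_mul hg
  obtain ⟨i, -, rfl⟩ := (Nat.dvd_prime_pow Nat.prime_two).1 h2
  apply Nat.mul_dvd_mul h1
  apply pow_dvd_pow
  by_contra hcon
  apply h
  exact (pow_dvd_pow 2 (show a ≤ i by omega)).trans (Nat.dvd_mul_left _ _)

section

variable {F V : Type*} [Field F] [Fintype F] [AddCommGroup V] [Module F V] [Finite V] {b : LinearMap.BilinForm F V}
  {N r d E : ℕ} {T : Module.End F V}

/-- **No elements of order `r 2 ^ a`.** -/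
theorem no_r_two (h2 : (2 : F) ≠ 0) (hq : Odd (Fintype.card F)) (hb : ∀ v, (∀ u, b u v = 0) → v = 0)
    (hTb : Isom b T) {a j : ℕ} (hj : 1 ≤ j)
    (ha : 2 ^ a ∣ Fintype.card F ^ 2 ^ j - 1) (ha' : ¬ 2 ^ (a + 1) ∣ Fintype.card F ^ 2 ^ j - 1)
    (hc : Cls (Nat.card F) r d E) (hle : finrank F V < 4 * d) (hle' : E = Nat.card F ^ d - 1 → finrank F V < 3 * d)
    (hK : finrank F V < 2 * d + 2 * 2 ^ j)
    (hT : ∀ j : ℕ, (T ^ j = 1 ∨ T ^ j = -1) ↔ r * 2 ^ a ∣ j) : False := by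
  have hfd : FiniteDimensional F V := inferInstance
  have hN : 0 < r * 2 ^ a := Nat.mul_pos hc.hr.pos (by positivity)
  have hq1 : 1 < Fintype.card F := Fintype.one_lt_card
  have hE : ¬ 2 ^ a ∣ E := by
    refine two_part hq hq1 hj ha ha' (d := d) ?_
    rcases hc.cls with ⟨-, h⟩ | ⟨h, -, -, h'⟩
    · left; rw [h, Nat.card_eq_fintype_card]
    · right; exact ⟨h, by rw [h', Nat.card_eq_fintype_card]⟩
  have ha1 : 1 ≤ a := by
    by_contra h
    apply hE
    rw [show a = 0 by omega, pow_zero]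
    exact one_dvd _
  have D := exists_dec hb hTb hN hT hc (Nat.dvd_mul_right _ _) hle hle'
  set y := T ^ (2 * (r * 2 ^ a / r)) with hydef
  have h2N : (T ^ (r * 2 ^ (a + 1))) = 1 := by
    rw [pow_succ, ← mul_assoc, pow_mul]
    rcases (hT (r * 2 ^ a)).2 dvd_rfl with h | h <;> rw [h]
    · exact one_pow 2
    · exact neg_one_sq
  -- on `R y`
  have hR : ∀ w ∈ R y, (T ^ (r * 2 ^ (a - 1))) w = w := by
    intro w hw
    have h1 := D.tor 1 w hw
    rw [pow_one] at h1
    have h3 := fix_gcd h1 (c := r * 2 ^ (a + 1)) (by rw [h2N]; rfl)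
    exact fix_dvd h3 (gcd_dvd (Nat.gcd_dvd_right _ _) (fun h => hE (h.trans (Nat.gcd_dvd_left _ _))))
  have hr2a : r * 2 ^ a = r * 2 ^ (a - 1) * 2 := by
    rw [mul_assoc, ← pow_succ, Nat.sub_add_cancel ha1]
  have hN1 : T ^ (r * 2 ^ a) = 1 := by
    rcases (hT (r * 2 ^ a)).2 dvd_rfl with h | h
    · exact h
    · exfalso
      obtain ⟨w, hw, hw0⟩ := Submodule.exists_mem_ne_zero_of_ne_bot (R_ne_bot D.hy1)
      have h3 := fix_dvd (hR w hw) (c := r * 2 ^ a) (by rw [hr2a]; exact Nat.dvd_mul_right _ _)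
      rw [h] at h3
      have h4 : -w = w := h3
      have h5 : (2 : F) • w = 0 := by
        rw [two_smul]
        nth_rw 1 [← h4]
        exact neg_add_cancel w
      exact hw0 ((smul_eq_zero.1 h5).resolve_left h2)
  -- on `K y`
  have hKi : ∀ w ∈ K y, (T ^ r) w ∈ K y := D.invK r
  have hpow : ∀ (k : ℕ) (w : K y), (((((T ^ r).restrict hKi) ^ k) w : K y) : V) = ((T ^ r) ^ k) w := by
    intro k
    induction k with
    | zero => intro w; rfl
    | succ k ih =>
      intro w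
      rw [pow_succ, pow_succ, Module.End.mul_apply, Module.End.mul_apply, ih]
      rfl
  have hKd : finrank F (K y) < 2 * 2 ^ j := by
    have := finrank_add y
    rw [D.fr] at this
    omega
  have hKT : ∀ w ∈ K y, (T ^ (r * 2 ^ (a - 1))) w = w := by
    by_contra hcon
    have h3 := Cfsg.Agent.H415.SpTwo.two_elt' (V := K y) h2 (b.restrict (K y))
      (fun v hv => by
        apply Subtype.ext
        apply nondeg_K D.hyb hb D.hy hc.ne v.2
        intro u hu
        exact hv ⟨u, hu⟩)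
      ((T ^ r).restrict hKi) (fun u v => Isom.pow hTb r u v) hj ha ha' (by
        refine LinearMap.ext fun w => Subtype.ext ?_
        rw [hpow, ← pow_mul, hN1]
        rfl) (by
        intro h
        apply hcon
        intro w hw
        have h5 := congrArg Subtype.val (LinearMap.congr_fun h ⟨w, hw⟩)
        rw [hpow, ← pow_mul] at h5
        exact h5)
    have h4 := h3.trans (Submodule.finrank_le _)
    omega
  have h6 : T ^ (r * 2 ^ (a - 1)) = 1 := eq_one_of_KR D.hy hc.ne hKT hR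
  have h7 := (hT _).1 (Or.inl h6)
  have h8 := Nat.le_of_dvd (Nat.mul_pos hc.hr.pos (by positivity)) h7
  rw [hr2a] at h8
  have : 0 < r * 2 ^ (a - 1) := Nat.mul_pos hc.hr.pos (by positivity)
  omega

end

section psp

variable {F : Type*} [Field F] [Fintype F] {n : ℕ}

theorem lin_of (x : PSp n F) {N : ℕ} (hx : orderOf x = N) : ∃ T : Module.End F (Fin n ⊕ Fin n → F), Isom (bJ n F) T ∧
    ∀ j : ℕ, (T ^ j = 1 ∨ T ^ j = -1) ↔ N ∣ j := by
  obtain ⟨T, hT, h⟩ := exists_lin x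
  exact ⟨T, hT, fun j => by rw [← h, ← hx, orderOf_dvd_iff_pow_eq_one]⟩

theorem finrank_V : finrank F (Fin n ⊕ Fin n → F) = 2 * n := by
  rw [Module.finrank_fintype_fun_eq_card, Fintype.card_sum, Fintype.card_fin, two_mul]

/-- `PSp_2n(q)` has no element of order `r 2 ^ a` -/
theorem psp_no_r_two (hq : Odd (Fintype.card F)) {a j r d E : ℕ} (hj : 1 ≤ j)
    (ha : 2 ^ a ∣ Fintype.card F ^ 2 ^ j - 1) (ha' : ¬ 2 ^ (a + 1) ∣ Fintype.card F ^ 2 ^ j - 1)
    (hc : Cls (Fintype.card F) r d E) (hd : n < 2 * d) (hd' : E = Fintype.card F ^ d - 1 → 2 * n < 3 * d) (hnd : n < d + 2 ^ j)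
    (x : PSp n F) : orderOf x ≠ r * 2 ^ a := by
  intro hx
  obtain ⟨T, hT, h⟩ := lin_of x hx
  rw [← Nat.card_eq_fintype_card] at hc
  exact no_r_two (H390.two_ne_zero_of_odd hq) hq bJ_nondeg hT hj ha ha' hc (by rw [finrank_V]; omega)
    (fun h => by rw [finrank_V]; exact hd' (by rw [h, Nat.card_eq_fintype_card])) (by rw [finrank_V]; omega) h

/-- elements of `PSp_2n(q)` of order divisible by `p r`, the class `n - 1` -/
theorem psp_dvd_pE (hq : Odd (Fintype.card F)) {p : ℕ} [Fact p.Prime] [CharP F p] {r E : ℕ} (hn : 4 ≤ n)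
    (hc : Cls (Fintype.card F) r (n - 1) E) (x : PSp n F) (hpx : p ∣ orderOf x) (hrx : r ∣ orderOf x) :
    orderOf x ∣ p * E := by
  obtain ⟨T, hT, h⟩ := lin_of x rfl
  have hp : p.Prime := Fact.out
  have hpq : p ∣ Fintype.card F := (CharP.cast_eq_zero_iff F p _).1 (FiniteField.cast_card_eq_zero F)
  have hp2 : p ≠ 2 := by
    rintro rfl
    obtain ⟨k, hk⟩ := hq
    omega
  have hq1 : 1 < Fintype.card F := Fintype.one_lt_card
  have hpow : Odd (Fintype.card F ^ (n - 1)) := hq.pow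
  have hpp : p ∣ Fintype.card F ^ (n - 1) := dvd_pow hpq (by omega)
  have hE : E = Fintype.card F ^ (n - 1) + 1 ∨ E = Fintype.card F ^ (n - 1) - 1 := by
    rcases hc.cls with ⟨-, h⟩ | ⟨-, -, -, h⟩
    · exact Or.inl h
    · exact Or.inr h
  have hqn : 1 < Fintype.card F ^ (n - 1) := Nat.one_lt_pow (by omega) hq1
  obtain ⟨m, hm⟩ := hpow
  have hE2 : 2 ∣ E := by
    rcases hE with h | h
    · exact ⟨m + 1, by omega⟩
    · exact ⟨m, by omega⟩
  have hEp : ¬ p ∣ E := by
    intro h1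
    have h3 : p ∣ 1 := by
      rcases hE with h | h
      · rw [h] at h1
        exact (Nat.dvd_add_right hpp).1 h1
      · rw [h] at h1
        have := (Nat.dvd_sub hpp h1)
        rwa [Nat.sub_sub_self (by omega)] at this
    exact hp.one_lt.ne' (Nat.dvd_one.1 h3)
  rw [← Nat.card_eq_fintype_card] at hc
  exact dvd_pE hp2 bJ_nondeg hT (orderOf_pos x) h hn finrank_V hc hE2 hEp hrx hpx

/-- no elements of order divisible by `p t r` -/
theorem psp_no_ptr (hq : Odd (Fintype.card F)) {p : ℕ} [Fact p.Prime] [CharP F p] {r d E c t E' : ℕ}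
    (hn : n = c + d) (hcd : c < d) (hc : Cls (Fintype.card F) r d E) (hdo : E = Fintype.card F ^ d - 1 → 2 * c < d)
    (hc' : Cls (Fintype.card F) t c E') (hEp : ¬ p ∣ E) (hEp' : ¬ p ∣ E') (htE : ¬ t ∣ E) (x : PSp n F) :
    orderOf x ≠ t * p * r := by
  intro hx
  obtain ⟨T, hT, h⟩ := lin_of x hx
  have hp : p.Prime := Fact.out
  have hpq : p ∣ Fintype.card F := (CharP.cast_eq_zero_iff F p _).1 (FiniteField.cast_card_eq_zero F)
  have hp2 : p ≠ 2 := by
    rintro rfl
    obtain ⟨k, hk⟩ := hq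
    omega
  have hpos : 0 < t * p * r := by
    have := orderOf_pos x
    rwa [hx] at this
  rw [← Nat.card_eq_fintype_card] at hc hc'
  exact no_ptr hp2 bJ_nondeg hT hpos h hcd (by rw [finrank_V, hn]) hc (fun h => hdo (by rw [h, Nat.card_eq_fintype_card])) hc' hEp hEp' htE (Nat.dvd_mul_left _ _)
    ((Nat.dvd_mul_left p t).mul_right r) ((Nat.dvd_mul_right t p).mul_right r)

end psp

end Cfsg.Agent.H403.S88
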