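import Mathlib
import Cfsg.Agent.H403.S88.LSideC

/-!
# S3588: the parameters for `L = PSp_2n(q)`, `S = Ω_2n+1(q)`, `q` odd (helper403)
-/

set_option autoImplicit false

namespace Cfsg.Agent.H403.S88

open Cfsg

/-- the parameters: `n = c + d`, `r` a prime of class `2 d` (`E = q ^ d + 1`) or `d` odd (`E = q ^ d - 1`) -/
structure Par (p n k c d jj r E bb : ℕ) : Prop where
  hn : n = c + d
  c1 : 1 ≤ c
  cd : c < d
  cls : Cls (p ^ k) r d E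
  hn2 : n < 2 * d
  hodd : E = (p ^ k) ^ d - 1 → 2 * n < 3 * d
  jj1 : 1 ≤ jj
  jjl : p ^ (jj - 1) < 2 * c
  jju : 2 * c - 1 ≤ p ^ (jj - 1)
  bb1 : 2 ^ bb ∣ E
  bb2 : ¬ 2 ^ (bb + 1) ∣ E
  hE : (E = (p ^ k) ^ d + 1 ∨ E = (p ^ k) ^ d - 1)
  rE : r ∣ E
  min : ∀ i, 0 < i → i < d → ¬ r ∣ (p ^ k) ^ i - 1 ∧ ¬ r ∣ (p ^ k) ^ i + 1
  mem : ∃ e, (n < e ∨ (2 * n < 3 * e ∧ Odd k)) ∧ orderOf (p : ZMod r) = e * k
  ord : orderOf ((p ^ k : ℕ) : ZMod r) = 2 * d ∨ (orderOf ((p ^ k : ℕ) : ZMod r) = d ∧ Odd d)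

theorem exists_two_part {E : ℕ} (hE : 0 < E) : ∃ bb, 2 ^ bb ∣ E ∧ ¬ 2 ^ (bb + 1) ∣ E :=
  ⟨_, Nat.ordProj_dvd E 2, Nat.pow_succ_factorization_not_dvd hE.ne' Nat.prime_two⟩

theorem orderOf_q {p k r e : ℕ} (hk : 1 ≤ k) (h : orderOf (p : ZMod r) = e * k) :
    orderOf ((p ^ k : ℕ) : ZMod r) = e := by
  rw [Nat.cast_pow, orderOf_pow' _ (by omega), h, Nat.gcd_mul_left_left, Nat.mul_div_cancel _ (by omega)]

theorem sq_fac {q i r : ℕ} (h : r ∣ q ^ i + 1) : r ∣ q ^ (2 * i) - 1 := by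
  have h1 : q ^ (2 * i) - 1 = (q ^ i + 1) * (q ^ i - 1) := by
    rw [mul_comm 2 i, pow_mul]
    have := Nat.sq_sub_sq (q ^ i) 1
    rwa [one_pow] at this
  rw [h1]
  exact h.mul_right _

/-- the plus case -/
theorem par_plus {p n k c d jj : ℕ} (hp : p.Prime) (hp2 : p ≠ 2) (hk : 1 ≤ k) (hn : n = c + d) (c1 : 1 ≤ c) (cd : c < d)
    (d3 : 3 ≤ d) (jj1 : 1 ≤ jj) (jjl : p ^ (jj - 1) < 2 * c) (jju : 2 * c - 1 ≤ p ^ (jj - 1)) :
    ∃ r bb, Par p n k c d jj r ((p ^ k) ^ d + 1) bb := by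
  have hp3 : 3 ≤ p := by
    have := hp.two_le
    omega
  have hdk : d ≤ d * k := Nat.le_mul_of_pos_right d (by omega)
  obtain ⟨r, hr, ho⟩ := Cfsg.Agent.Lib.Zsigmondy.exists_prime_orderOf (a := p) (n := 2 * d * k) (by omega)
    (by rw [mul_assoc]; omega) (by rw [mul_assoc]; omega) (by rintro ⟨h, -⟩; omega)
  have hoq := orderOf_q hk ho
  have hq1 : 1 ≤ p ^ k := Nat.one_le_pow _ _ hp.pos
  have hq3 : 1 < p ^ k := Nat.one_lt_pow (by omega) (by omega)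
  obtain ⟨bb, h1, h2⟩ := exists_two_part (E := (p ^ k) ^ d + 1) (by omega)
  have hcls := cls_even hq1 (by omega) hr hoq
  have hord : Cfsg.Agent.H200.LinFix.Ordd r (p ^ k) (2 * d) := ordd_of_orderOf hq1 hoq
  refine ⟨r, bb, hn, c1, cd, hcls, by omega, ?_, jj1, jjl, jju, h1, h2, Or.inl rfl, ?_, ?_, ⟨2 * d, Or.inl (by omega), ho⟩,
    Or.inl hoq⟩
  · intro h
    have : 1 ≤ (p ^ k) ^ d := Nat.one_le_pow _ _ (by omega)
    omega
  · have := H390.pow_dvd_add_one (q := p ^ k) (n := d) (a := 1) hr hq1 (by omega) hoq (by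
      rw [pow_one, ← ZMod.natCast_eq_zero_iff, Nat.cast_sub (Nat.one_le_pow _ _ (by omega)), Nat.cast_pow, Nat.cast_one,
        sub_eq_zero, ← hoq]
      exact pow_orderOf_eq_one _)
    rwa [pow_one] at this
  · intro i hi0 hid
    constructor
    · intro h
      have := Nat.le_of_dvd hi0 (hord i h)
      omega
    · intro h
      have := Nat.le_of_dvd (by omega) (hord (2 * i) (sq_fac h))
      omega

/-- the minus case -/
theorem par_minus {p n k : ℕ} (hp : p.Prime) (hp2 : p ≠ 2) (hk : Odd k) (hn : 5 ≤ n) (hev : Even n) :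
    ∃ r bb, Par p n k 1 (n - 1) 1 r ((p ^ k) ^ (n - 1) - 1) bb := by
  have hp3 : 3 ≤ p := by
    have := hp.two_le
    omega
  have hk1 : 1 ≤ k := hk.pos
  have hdo : Odd (n - 1) := by
    obtain ⟨t, ht⟩ := hev
    exact ⟨t - 1, by omega⟩
  have hdk : (n - 1) ≤ (n - 1) * k := Nat.le_mul_of_pos_right _ (by omega)
  obtain ⟨r, hr, ho⟩ := Cfsg.Agent.Lib.Zsigmondy.exists_prime_orderOf (a := p) (n := (n - 1) * k) (by omega)
    (by omega) (by omega) (by rintro ⟨h, -⟩; omega)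
  have hoq := orderOf_q hk1 ho
  have hq1 : 1 ≤ p ^ k := Nat.one_le_pow _ _ hp.pos
  have hq3 : 1 < p ^ k := Nat.one_lt_pow (by omega) (by omega)
  have hqd : 1 < (p ^ k) ^ (n - 1) := Nat.one_lt_pow (by omega) hq3
  obtain ⟨bb, h1, h2⟩ := exists_two_part (E := (p ^ k) ^ (n - 1) - 1) (by omega)
  have hcls := cls_odd hq1 (by omega) hdo hr hoq
  have hord : Cfsg.Agent.H200.LinFix.Ordd r (p ^ k) (n - 1) := ordd_of_orderOf hq1 hoq
  refine ⟨r, bb, by omega, le_rfl, by omega, hcls, by omega, fun _ => by omega, le_rfl, by norm_num, by norm_num, h1, h2,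
    Or.inr rfl, ?_, ?_, ⟨n - 1, Or.inr ⟨by omega, hk⟩, ho⟩, Or.inr ⟨hoq, hdo⟩⟩
  · rw [← ZMod.natCast_eq_zero_iff, Nat.cast_sub (Nat.one_le_pow _ _ (by omega)), Nat.cast_pow, Nat.cast_one,
      sub_eq_zero]
    exact orderOf_dvd_iff_pow_eq_one.1 (dvd_of_eq hoq)
  · intro i hi0 hid
    constructor
    · intro h
      have := Nat.le_of_dvd hi0 (hord i h)
      omega
    · intro h
      have h3 := hord (2 * i) (sq_fac h)
      have h4 : (n - 1) ∣ i := (Nat.Coprime.dvd_mul_left (Nat.coprime_two_right.2 hdo)).1 h3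
      have := Nat.le_of_dvd hi0 h4
      omega

/-- powers of two around `n` -/
theorem exists_j0 {n : ℕ} (hn : 5 ≤ n) : ∃ j0, 2 ≤ j0 ∧ 2 ^ j0 < n ∧ n ≤ 2 * 2 ^ j0 := by
  refine ⟨Nat.log 2 (n - 1), ?_, ?_, ?_⟩
  · exact Nat.le_log_of_pow_le (by norm_num) (by omega)
  · have := Nat.pow_log_le_self 2 (show n - 1 ≠ 0 by omega)
    omega
  · have := Nat.lt_pow_succ_log_self (show 1 < 2 by norm_num) (n - 1)
    rw [Nat.succ_eq_add_one, pow_succ] at this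
    omega

end Cfsg.Agent.H403.S88
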