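import Mathlib
import Cfsg.Agent.H403.S88.Def
import Cfsg.Agent.H403.S88.GrpB
import Cfsg.Agent.H403.S88.K8Num
import Cfsg.Agent.H229.T.SLOm
import Cfsg.Agent.H104.NoElt

/-!
# S3588: `L = PSp_2n(q)`, `S = Ω_2n+1(q)`, `q` odd (helper403)

* `exists_frob_sub` : Frobenius groups `q ^ m : 2 ^ a` in `Ω_2n+1(q)`;
* `Ctx` : the context; `Ctx.not_dvd` : `2` and `r` do not divide `|K|`;
* `Ctx.fin` : the final contradiction if no element of order `p` of `K` commutes with an element of order `r`.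
-/

set_option autoImplicit false
set_option linter.unusedSectionVars false

namespace Cfsg.Agent.H403.S88

open Subgroup Cfsg Cfsg.Agent.H414.LieShape Cfsg.Agent.H426.LieFam Cfsg.Agent.H403.S88.Grp
open QuadraticMap Module Cfsg.Agent.H229.T
open Cfsg.Agent.LieClassical.OrthCore Cfsg.Agent.LieClassical.OrthForms Cfsg.Agent.LieClassical.OrthFinite

/-- Frobenius groups in `Ω` -/
theorem exists_frob_sub {F : Type*} [Field F] [Fintype F] (h2 : (2 : F) ≠ 0) {V : Type*} [AddCommGroup V] [Module F V]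
    [FiniteDimensional F V] [Finite V] {Q : QuadraticForm F V} (hQ : Nondeg Q) {m n : ℕ} (hm0 : 1 ≤ m) (hm : Even m)
    (hV : finrank F V = 2 * n + 1) (hmn : m + 1 ≤ n) :
    ∃ (U : Subgroup (Om Q)) (c : Om Q), orderOf c = 2 ^ padicValNat 2 (Fintype.card F ^ m - 1) ∧
      (∀ a ∈ U, c * a * c⁻¹ ∈ U) ∧ (∀ i, 0 < i → i < orderOf c → ∀ a ∈ U, c ^ i * a = a * c ^ i → a = 1) ∧
      Nat.card U = Fintype.card F ^ m := by
  classical
  obtain ⟨L, _, _, ζ, u, c, hL, hu, hζ, hc, hcu⟩ := exists_frob_gen h2 hQ hm0 hm hV hmn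
  have hci : ∀ (i : ℕ) (b : L), c ^ i * u (Multiplicative.ofAdd b) = u (Multiplicative.ofAdd (((ζ ^ i : Lˣ) : L) * b)) * c ^ i := by
    intro i
    induction i with
    | zero => intro b; simp
    | succ i ih =>
      intro b
      rw [pow_succ', mul_assoc, ih, ← mul_assoc, hcu, mul_assoc]
      congr 3
      rw [pow_succ', Units.val_mul, mul_assoc]
  refine ⟨u.range, c, hc, ?_, ?_, ?_⟩
  · rintro _ ⟨b, rfl⟩
    refine ⟨Multiplicative.ofAdd ((ζ : L) * b.toAdd), ?_⟩
    have h1 := hcu b.toAdd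
    rw [eq_mul_inv_iff_mul_eq]
    exact h1.symm
  · rintro i hi0 hi _ ⟨b, rfl⟩ h
    have h1 := hci i b.toAdd
    have h3 : u (Multiplicative.ofAdd (((ζ ^ i : Lˣ) : L) * b.toAdd)) = u b := by
      have h4 : c ^ i * u b = u (Multiplicative.ofAdd (((ζ ^ i : Lˣ) : L) * b.toAdd)) * c ^ i := h1
      rw [h] at h4
      exact (mul_right_cancel h4).symm
    have h5 := hu h3
    have h6 : ((ζ ^ i : Lˣ) : L) * b.toAdd = b.toAdd := congrArg Multiplicative.toAdd h5
    have h7 : (((ζ ^ i : Lˣ) : L) - 1) * b.toAdd = 0 := by linear_combination h6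
    rcases mul_eq_zero.1 h7 with h8 | h8
    · exfalso
      have h9 : ζ ^ i = 1 := Units.ext (sub_eq_zero.1 h8)
      have h10 := orderOf_dvd_of_pow_eq_one h9
      rw [hζ, ← hc] at h10
      have := Nat.le_of_dvd hi0 h10
      omega
    · have : b = 1 := by
        have : b = Multiplicative.ofAdd b.toAdd := rfl
        rw [this, h8]
        rfl
      rw [this, map_one]
  · rw [Nat.card_congr (MonoidHom.ofInjective hu).symm.toEquiv, ← hL]
    exact Nat.card_congr Multiplicative.toAdd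

/-- element orders of `PSp` -/
def om (n : ℕ) (F : Type*) [Field F] : Set ℕ := {m | ∃ x : PSp n F, orderOf x = m}

theorem om_dvd {n : ℕ} {F : Type*} [Field F] [Finite F] : ∀ a b, a ∣ b → b ∈ om n F → a ∈ om n F := by
  rintro a b hab ⟨x, rfl⟩
  have hx0 : 0 < orderOf x := orderOf_pos x
  have ha0 : 0 < a := Nat.pos_of_dvd_of_pos hab hx0
  exact ⟨x ^ (orderOf x / a), by
    rw [orderOf_pow_of_dvd (Nat.div_pos (Nat.le_of_dvd hx0 hab) ha0).ne' (Nat.div_dvd_of_dvd hab),
      Nat.div_div_self hab hx0.ne']⟩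

universe u

section ctx

variable {F : Type*} [Field F] [Fintype F] {V : Type*} [AddCommGroup V] [Module F V] [FiniteDimensional F V] [Finite V]
  {Q : QuadraticForm F V} {n : ℕ} {G : Type u} [Group G] [Finite G] {K : Subgroup G} [K.Normal] {S : Subgroup (G ⧸ K)}
  {O : Set ℕ}

/-- the normal closure of a nontrivial element of a simple normal subgroup -/
theorem le_normalClosure {A : Type*} [Group A] {S : Subgroup A} [hSn : S.Normal] (hS : IsSimpleGroup S) {y : A}
    (hy : y ∈ S) (hy1 : y ≠ 1) : S ≤ normalClosure {y} := by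
  let T : Subgroup S := (normalClosure {y}).subgroupOf S
  have hT : T.Normal := inferInstance
  have hT1 : T ≠ ⊥ := by
    intro h
    apply hy1
    have h1 : (⟨y, hy⟩ : S) ∈ T := by
      rw [mem_subgroupOf]
      exact subset_normalClosure rfl
    rw [h, mem_bot] at h1
    exact congrArg Subtype.val h1
  have h2 := (hS.eq_bot_or_eq_top_of_normal T hT).resolve_left hT1
  intro a ha
  have h1 : (⟨a, ha⟩ : S) ∈ T := by rw [h2]; exact mem_top _
  rwa [mem_subgroupOf] at h1

/-- **`t ∤ |K|`** -/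
theorem not_dvd_aux (h2 : (2 : F) ≠ 0) (hQ : Nondeg Q) (hV : finrank F V = 2 * n + 1) (hSs : IsSimpleGroup S)
    (e : S ≃* Om Q) (hsol : Group.IsSolvable K) (hO : ∀ g : G, orderOf g ∈ O) {s : ℕ} {y : G ⧸ K} (hb : Base O S s y)
    {t : ℕ} (ht : t.Prime) (htq : ¬ t ∣ Fintype.card F) (hst : s ≠ t) (hts : s * t ∉ O) {m : ℕ} (hm0 : 1 ≤ m)
    (hm : Even m) (hmn : m + 1 ≤ n) (hct : 2 ^ padicValNat 2 (Fintype.card F ^ m - 1) * t ∉ O)
    (hsK : ¬ s ∣ Nat.card K) : ¬ t ∣ Nat.card K := by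
  obtain ⟨U, c, hc, hn, hfix, hU⟩ := exists_frob_sub h2 hQ hm0 hm hV hmn
  let ι : Om Q →* G ⧸ K := S.subtype.comp e.symm.toMonoidHom
  have hι : Function.Injective ι := S.subtype_injective.comp e.symm.injective
  have hcard : Nat.card (U.map ι) = Nat.card U := Nat.card_congr (U.equivMapOfInjective ι hι).symm.toEquiv
  have hker : (QuotientGroup.mk' K).ker = K := QuotientGroup.ker_mk' K
  have key := not_dvd_card hb hSs ht hst hts (Q := U.map ι) (c := ι c) (by
      rintro _ ⟨a, -, rfl⟩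
      exact (e.symm a).2) (by
      rintro _ ⟨a, ha, rfl⟩
      exact ⟨c * a * c⁻¹, hn a ha, by rw [map_mul, map_mul, map_inv]⟩) (by
      rintro i hi0 hi _ ⟨a, ha, rfl⟩ hcomm
      rw [orderOf_injective ι hι] at hi
      rw [← map_pow, ← map_mul, ← map_mul] at hcomm
      rw [hfix i hi0 hi a ha (hι hcomm), map_one]) (by
      rw [hcard, hU]
      exact Nat.Coprime.pow_left m ((Nat.Prime.coprime_iff_not_dvd ht).2 htq).symm) (by
      intro h
      rw [h, Subgroup.card_bot, hU] at hcard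
      have h1 : 1 < Fintype.card F ^ m := Nat.one_lt_pow (by omega) Fintype.one_lt_card
      omega) (by
      rw [orderOf_injective ι hι, hc]
      exact hct) _ G (QuotientGroup.mk' K) rfl (QuotientGroup.mk'_surjective K) (by rw [hker]; exact hsol) hO
    (by rw [hker]; exact hsK)
  rwa [hker] at key

end ctx

end Cfsg.Agent.H403.S88
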