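import Mathlib
import Cfsg.Agent.H403.S88.K8A
import Cfsg.Agent.H403.S88.KillA
import Cfsg.Agent.H104.CBadOm
import Cfsg.Agent.S2472
import Cfsg.Agent.S0292

/-!
# S3588: `L = PSp_2n(q)`, `S = Ω_2n+1(q)`, `q` odd, continued (helper403)

* `C8` : the context; `C8.two_K`, `C8.r_K` : `2` and `r` do not divide `|K|`;
* `C8.fin` : the final contradiction from `CBad`.
-/

set_option autoImplicit false
set_option linter.unusedSectionVars false

namespace Cfsg.Agent.H403.S88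

open Subgroup Cfsg Cfsg.Agent.H403.S88.Grp Cfsg.Agent.H390 Cfsg.Agent.H390.NonAdj
open QuadraticMap Module Cfsg.Agent.H229.T
open Cfsg.Agent.LieClassical.OrthCore Cfsg.Agent.LieClassical.OrthForms Cfsg.Agent.LieClassical.OrthFinite

universe u

/-- the context -/
structure C8 (p n k : ℕ) (F₁ F : Type) [Field F₁] [Fintype F₁] [Field F] [Fintype F] {G : Type u} [Group G]
    (K : Subgroup G) [K.Normal] (S : Subgroup (G ⧸ K)) (s2 : ℕ) : Prop where
  hp : p.Prime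
  hp2 : p ≠ 2
  hn : 5 ≤ n
  hk : 1 ≤ k
  hF₁ : Fintype.card F₁ = p ^ k
  hF : Fintype.card F = p ^ k
  ch₁ : CharP F₁ p
  ch : CharP F p
  sol : Group.IsSolvable K
  norm : S.Normal
  simple : IsSimpleGroup S
  cent : Subgroup.centralizer (S : Set (G ⧸ K)) = ⊥
  iso : Nonempty (S ≃* POmega F (quadFormOdd n F))
  hG : ∀ m, (∃ g : G, orderOf g = m) ↔ m ∈ om n F₁
  hs : ∀ s, s.Prime → orderOf (p : ZMod s) = 2 * n * k → ¬ s ∣ Nat.card K
  s2p : s2.Prime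
  s22 : s2 ≠ 2
  s2d : s2 ∣ Nat.card S
  s2o : s2 * 2 ∉ om n F₁
  s2K : ¬ s2 ∣ Nat.card K
  hub : ∀ w, w.Prime → ∃ z, z.Prime ∧ z ≠ w ∧ z ∣ Nat.card S ∧ z * w ∉ om n F₁

/-- `|PΩ_2n+1(q)| = |PSp_2n(q)|` -/
theorem card_eq {F₁ F : Type} [Field F₁] [Fintype F₁] [Field F] [Fintype F] (h : Fintype.card F₁ = Fintype.card F)
    (hodd : Odd (Fintype.card F)) {n : ℕ} (hn : 3 ≤ n) : Nat.card (POmega F (quadFormOdd n F)) = Nat.card (PSp n F₁) := by
  have h1 := Cfsg.Agent.S0245.result (F := F₁) rfl n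
  have h2 := Cfsg.Agent.S0246.result (F := F₁) rfl n (by omega)
  have h3 := Subgroup.card_eq_card_quotient_mul_card_subgroup (Subgroup.center (Matrix.symplecticGroup (Fin n) F₁))
  have h4 := Cfsg.Agent.S0292.result (F := F) rfl hodd n hn
  have hgcd : Nat.gcd 2 (Fintype.card F₁ - 1) = 2 := by
    apply Nat.gcd_eq_left
    rw [h]
    obtain ⟨m, hm⟩ := hodd
    exact ⟨m, by omega⟩
  rw [h1, h2, hgcd, h, ← h4] at h3
  have h5 : Nat.card (POmega F (quadFormOdd n F)) = Nat.card (Matrix.symplecticGroup (Fin n) F₁ ⧸ Subgroup.center (Matrix.symplecticGroup (Fin n) F₁)) := by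
    omega
  exact h5

section

variable {p n k : ℕ} {F₁ F : Type} [Field F₁] [Fintype F₁] [Field F] [Fintype F] {G : Type u} [Group G] [Finite G]
  {K : Subgroup G} [K.Normal] {S : Subgroup (G ⧸ K)} {s2 : ℕ}

theorem C8.odd (C : C8 p n k F₁ F K S s2) : Odd (p ^ k) := (C.hp.odd_of_ne_two C.hp2).pow

theorem C8.base (C : C8 p n k F₁ F K S s2) {s : ℕ} (hs : s.Prime) (hsd : s ∣ Nat.card S) :
    ∃ y, Base (om n F₁) S s y := by
  have := Fact.mk hs
  have := C.norm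
  obtain ⟨x, hx⟩ := exists_prime_orderOf_dvd_card' s hsd
  have hx1 : (x : G ⧸ K) ≠ 1 := by
    intro h
    have h1 : x = 1 := Subtype.ext h
    rw [h1, orderOf_one] at hx
    exact hs.one_lt.ne hx
  exact ⟨x, om_dvd, hs, by rw [Subgroup.orderOf_coe, hx], le_normalClosure C.simple x.2 hx1, C.hub⟩

theorem C8.cardS (C : C8 p n k F₁ F K S s2) : Nat.card S = Nat.card (PSp n F₁) := by
  obtain ⟨e⟩ := C.iso
  rw [Nat.card_congr e.toEquiv]
  exact card_eq (by rw [C.hF₁, C.hF]) (by rw [C.hF]; exact C.odd) (by have := C.hn; omega)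

theorem C8.exists_om (C : C8 p n k F₁ F K S s2) :
    Nonempty (S ≃* Om (oddForm n F)) := by
  obtain ⟨e⟩ := C.iso
  have h2 : (2 : F) ≠ 0 := Cfsg.Agent.H229.T.two_ne_zero_of_odd (by rw [C.hF]; exact C.odd)
  have hn := C.hn
  have hcard : Fintype.card (Unit ⊕ (Fin n ⊕ Fin n)) = 2 * n + 1 := by
    simp only [Fintype.card_sum, Fintype.card_unit, Fintype.card_fin]
    ring
  obtain ⟨e'⟩ := exists_pomega h2 (nondeg_oddForm n F h2) (by rw [hcard]; omega) (by rw [hcard]; exact ⟨n, rfl⟩)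
  rw [coe_oddForm] at e'
  exact ⟨e.trans e'⟩

/-- the primes of class `2 n` -/
theorem C8.sp (C : C8 p n k F₁ F K S s2) {s : ℕ} (hs : s.Prime) (ho : orderOf (p : ZMod s) = 2 * n * k) :
    s ∣ Nat.card S ∧ s * p ∉ om n F₁ ∧ s ≠ p := by
  have hn := C.hn
  have hk := C.hk
  have hp := C.hp
  have := C.ch₁
  have := Fact.mk hp
  have hoq := orderOf_q hk ho
  obtain ⟨hs2, hs3, hsq, -, -⟩ := prim_cond hs hoq (by omega)
  have hsp : s ≠ p := by
    rintro rfl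
    apply hsq
    exact dvd_pow_self _ (by omega)
  have hsd : s ∣ Nat.card (PSp n F₁) := by
    exact dvd_card_psp (e := 2 * n) (η := n) hs (by rw [Nat.card_eq_fintype_card, C.hF₁, hoq]) (by omega)
      (Or.inr ⟨⟨n, by ring⟩, rfl⟩) le_rfl
  refine ⟨by rw [C.cardS]; exact hsd, ?_, hsp⟩
  rintro ⟨x, hx⟩
  have h1 := (Cfsg.Agent.S2472.result (F := F₁) p n (by omega) (by omega) s hs hs2 hsp hsd (2 * n) n
    (by rw [C.hF₁, hoq]) (Or.inr ⟨⟨n, by ring⟩, rfl⟩)).2 (by omega)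
  exact h1 ⟨x, hx⟩

/-- the prime `s` of class `2 n` -/
theorem C8.exists_s (C : C8 p n k F₁ F K S s2) : ∃ s, s.Prime ∧ orderOf (p : ZMod s) = 2 * n * k ∧ s ∣ Nat.card S ∧
    s * p ∉ om n F₁ ∧ s ≠ p := by
  have hn := C.hn
  have hk := C.hk
  have hp3 : 3 ≤ p := by
    have := C.hp.two_le
    have := C.hp2
    omega
  have hdk : n ≤ n * k := Nat.le_mul_of_pos_right n (by omega)
  obtain ⟨s, hs, ho⟩ := Cfsg.Agent.Lib.Zsigmondy.exists_prime_orderOf (a := p) (n := 2 * n * k) (by omega)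
    (by rw [mul_assoc]; omega) (by rw [mul_assoc]; omega) (by rintro ⟨h, -⟩; omega)
  obtain ⟨h1, h2, h3⟩ := C.sp hs ho
  exact ⟨s, hs, ho, h1, h2, h3⟩

/-- the exact power of two -/
theorem C8.two_exact (C : C8 p n k F₁ F K S s2) {j0 : ℕ} (hj : 2 ≤ j0) :
    ∃ a, padicValNat 2 ((p ^ k) ^ 2 ^ j0 - 1) = a ∧ 2 ^ a ∣ (p ^ k) ^ 2 ^ j0 - 1 ∧ ¬ 2 ^ (a + 1) ∣ (p ^ k) ^ 2 ^ j0 - 1 ∧
      2 ^ (a + 1) ∣ (p ^ k) ^ 2 ^ (j0 + 1) - 1 ∧ ¬ 2 ^ (a + 2) ∣ (p ^ k) ^ 2 ^ (j0 + 1) - 1 := by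
  have hodd := C.odd
  set q := p ^ k with hq
  have hq1 : 1 < q := Nat.one_lt_pow (by have := C.hk; omega) C.hp.one_lt
  have hm : q ^ 2 ^ j0 - 1 ≠ 0 := by
    have : 1 < q ^ 2 ^ j0 := Nat.one_lt_pow (by positivity) hq1
    omega
  have := Fact.mk Nat.prime_two
  have h1 : q ^ 2 ^ (j0 + 1) - 1 = (q ^ 2 ^ j0 + 1) * (q ^ 2 ^ j0 - 1) := by
    rw [pow_succ 2 j0, pow_mul]
    have := Nat.sq_sub_sq (q ^ 2 ^ j0) 1
    rwa [one_pow] at this
  -- `q ^ m ≡ 1 mod 4`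
  have h4 : q ^ 2 ^ j0 % 4 = 1 := by
    have h5 : (2 : ℕ) ^ j0 = 2 * 2 ^ (j0 - 1) := by rw [← pow_succ']; congr 1; omega
    rw [h5, pow_mul, Nat.pow_mod]
    have h6 : q ^ 2 % 4 = 1 := by
      rw [Nat.pow_mod]
      have : q % 4 = 1 ∨ q % 4 = 3 := by
        obtain ⟨t, ht⟩ := hodd
        omega
      rcases this with h | h <;> rw [h]
    rw [h6, one_pow]
    norm_num
  obtain ⟨t, ht⟩ : ∃ t, q ^ 2 ^ j0 + 1 = 2 * (2 * t + 1) := ⟨(q ^ 2 ^ j0 - 1) / 4, by omega⟩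
  refine ⟨_, rfl, pow_padicValNat_dvd, pow_succ_padicValNat_not_dvd hm, ?_, ?_⟩
  · rw [h1, ht, pow_succ']
    exact Nat.mul_dvd_mul (Nat.dvd_mul_right _ _) pow_padicValNat_dvd
  · rw [h1, ht]
    intro h
    set a := padicValNat 2 (q ^ 2 ^ j0 - 1) with ha
    have h7 : 2 ^ (a + 1) ∣ (2 * t + 1) * (q ^ 2 ^ j0 - 1) := by
      apply Nat.dvd_of_mul_dvd_mul_left (show 0 < 2 by norm_num)
      rw [← pow_succ', ← mul_assoc]
      exact h
    have h8 : Nat.Coprime (2 ^ (a + 1)) (2 * t + 1) := by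
      apply Nat.Coprime.pow_left
      rw [Nat.coprime_two_left]
      exact ⟨t, rfl⟩
    exact pow_succ_padicValNat_not_dvd hm (h8.dvd_of_dvd_mul_left h7)

/-- `t` does not divide `|K|` -/
theorem C8.not_dvd (C : C8 p n k F₁ F K S s2) {s : ℕ} (hs : s.Prime) (hsS : s ∣ Nat.card S) (hsK : ¬ s ∣ Nat.card K)
    {t : ℕ} (ht : t.Prime) (htp : t ≠ p) (hst : s ≠ t) (hts : s * t ∉ om n F₁) {m : ℕ} (hm0 : 1 ≤ m) (hm : Even m)
    (hmn : m + 1 ≤ n) (hct : 2 ^ padicValNat 2 ((p ^ k) ^ m - 1) * t ∉ om n F₁) : ¬ t ∣ Nat.card K := by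
  obtain ⟨e⟩ := C.exists_om
  obtain ⟨y, hb⟩ := C.base hs hsS
  have h2 : (2 : F) ≠ 0 := Cfsg.Agent.H229.T.two_ne_zero_of_odd (by rw [C.hF]; exact C.odd)
  exact not_dvd_aux h2 (nondeg_oddForm n F h2) (by simp; ring) C.simple e C.sol (fun g => (C.hG _).1 ⟨g, rfl⟩) hb ht
    (by
      rw [C.hF]
      intro h
      exact htp ((Nat.prime_dvd_prime_iff_eq ht C.hp).1 (ht.dvd_of_dvd_pow h))) hst hts hm0 hm hmn (by rw [C.hF]; exact hct) hsK

/-- **`2 ∤ |K|`** -/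
theorem C8.two_K (C : C8 p n k F₁ F K S s2) : ¬ 2 ∣ Nat.card K := by
  have hn := C.hn
  obtain ⟨j0, hj, hj1, hj2⟩ := exists_j0 C.hn
  obtain ⟨a, ha, h1, h2, h3, h4⟩ := C.two_exact hj
  have hj3 : (2 : ℕ) ^ j0 = 2 ^ (j0 - 1) * 2 := by rw [← pow_succ]; congr 1; omega
  refine C.not_dvd C.s2p C.s2d C.s2K Nat.prime_two (fun h => C.hp2 h.symm) C.s22 C.s2o
    (m := 2 ^ j0) (Nat.one_le_two_pow) ⟨2 ^ (j0 - 1), by omega⟩ (by omega) ?_
  rw [ha, ← pow_succ]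
  rintro ⟨x, hx⟩
  have h20 : (2 : F₁) ≠ 0 := Cfsg.Agent.H229.T.two_ne_zero_of_odd (by rw [C.hF₁]; exact C.odd)
  refine Cfsg.Agent.H415.SpTwo.no_two h20 (n := n) (j := j0) (a := a + 1) (by omega) (by omega) hj2 (by rw [C.hF₁]; exact h3)
    (by rw [C.hF₁]; exact h4) x hx

/-- **`r ∤ |K|`** -/
theorem C8.r_K (C : C8 p n k F₁ F K S s2) {c d jj r E bb : ℕ} (P : Par p n k c d jj r E bb)
    (hc : ∀ j0, 2 ≤ j0 → 2 ^ j0 < n → n ≤ 2 * 2 ^ j0 → c < 2 ^ j0) : ¬ r ∣ Nat.card K := by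
  have hn := C.hn
  have hPn := P.hn
  have hPc := P.c1
  have hPcd := P.cd
  obtain ⟨s, hs, ho, hsS, hsp, hsp'⟩ := C.exists_s
  obtain ⟨j0, hj, hj1, hj2⟩ := exists_j0 C.hn
  obtain ⟨a, ha, h1, h2, h3, h4⟩ := C.two_exact hj
  have hj3 : (2 : ℕ) ^ j0 = 2 ^ (j0 - 1) * 2 := by rw [← pow_succ]; congr 1; omega
  have hcj := hc j0 hj hj1 hj2
  have hoq := orderOf_q C.hk ho
  have hrs : s ≠ r := by
    rintro rfl
    rcases P.ord with h | ⟨h, -⟩ <;> rw [hoq] at h <;> omega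
  have hrp : r ≠ p := by
    rintro rfl
    apply P.cls.hrq
    exact dvd_pow_self _ (by have := C.hk; omega)
  refine C.not_dvd hs hsS (C.hs s hs ho) P.cls.hr hrp hrs ?_ (m := 2 ^ j0) (Nat.one_le_two_pow)
    ⟨2 ^ (j0 - 1), by omega⟩ (by omega) ?_
  · rintro ⟨x, hx⟩
    have hna := na_psp (F := F₁) (n := n) (by omega) (by omega)
    rw [Nat.card_eq_fintype_card, C.hF₁] at hna
    rcases P.ord with h | ⟨h, hdo⟩
    · refine hna s r (2 * n) (2 * d) n d hs P.cls.hr hoq h hrs (by omega) (by omega) (Or.inr ⟨⟨n, by ring⟩, rfl⟩)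
        (Or.inr ⟨⟨d, by ring⟩, rfl⟩) (by omega) (by omega) (by omega) ?_ x hx
      rintro ⟨t, ht, hnt⟩
      have ht1 : t = 1 := by
        by_contra ht1
        have ht3 : 3 ≤ t := by
          obtain ⟨i, hi⟩ := ht
          omega
        have : 2 * d * 3 ≤ 2 * d * t := Nat.mul_le_mul_left _ ht3
        omega
      rw [ht1, mul_one] at hnt
      omega
    · refine hna s r (2 * n) d n d hs P.cls.hr hoq h hrs (by omega) (by omega) (Or.inr ⟨⟨n, by ring⟩, rfl⟩)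
        (Or.inl ⟨hdo, rfl⟩) (by omega) (by omega) (by omega) ?_ x hx
      rintro ⟨t, ht, hnt⟩
      have := hdo.mul ht
      rw [← hnt] at this
      exact absurd ⟨n, by ring⟩ (Nat.not_even_iff_odd.2 this)
  · rw [ha, mul_comm]
    rintro ⟨x, hx⟩
    refine psp_no_r_two (F := F₁) (by rw [C.hF₁]; exact C.odd) (a := a) (j := j0) (by omega) (by rw [C.hF₁]; exact h1)
      (by rw [C.hF₁]; exact h2) (d := d) (E := E) (by rw [C.hF₁]; exact P.cls) (by have := P.hn2; omega)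
      (fun h => P.hodd (by rw [h, C.hF₁])) (by omega) x hx

/-- **The final contradiction.** -/
theorem C8.fin' (C : C8 p n k F₁ F K S s2) {c d jj r E bb : ℕ} (P : Par p n k c d jj r E bb)
    (hrK : ¬ r ∣ Nat.card K) (hmem : ∀ z x : G ⧸ K, orderOf z = r → Commute x z → x ∈ S)
    (h : ∀ a u : G, orderOf a = r → u ∈ (QuotientGroup.mk' K).ker → orderOf u = p → ¬ Commute u a) : False := by
  have hn := C.hn
  have hp := C.hp
  have := Fact.mk hp
  have := C.ch₁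
  have := C.ch
  have hPn := P.hn
  have hPc := P.c1
  have hPcd := P.cd
  have hr := P.cls.hr
  have hr2 := P.cls.hr2
  have h2K := C.two_K
  have hker : (QuotientGroup.mk' K).ker = K := QuotientGroup.ker_mk' K
  -- an element of `G`
  have hodd := C.odd
  have h20 : (2 : F₁) ≠ 0 := Cfsg.Agent.H229.T.two_ne_zero_of_odd (by rw [C.hF₁]; exact hodd)
  have hE0 : 2 ∣ E := by
    have h1 : Odd ((p ^ k) ^ d) := hodd.pow
    obtain ⟨t, ht⟩ := h1
    rcases P.hE with h | h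
    · exact ⟨t + 1, by omega⟩
    · exact ⟨t, by omega⟩
  obtain ⟨x, hx⟩ : ∃ x : PSp n F₁, orderOf x = p ^ jj * E := by
    obtain ⟨h1, h3⟩ := Cfsg.Agent.H497.Spec.exists_unip_tor F₁ (p := p) h20 (c := c) (d := d) (j := jj) P.c1 (by omega)
      P.jj1 P.jjl
    rw [C.hF₁, ← hPn] at h1 h3
    rcases P.hE with h | h
    · rw [h]; exact h1
    · rw [h]; exact h3
  have hrbE : r * 2 ^ bb ∣ E :=
    Nat.Coprime.mul_dvd_of_dvd_of_dvd (Nat.Coprime.pow_right _ ((Nat.coprime_primes hr Nat.prime_two).2 hr2)) P.rE P.bb1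
  have hmemO : p ^ jj * r * 2 ^ bb ∈ om n F₁ := by
    refine om_dvd _ _ ?_ ⟨x, hx⟩
    rw [mul_assoc]
    exact Nat.mul_dvd_mul_left _ hrbE
  obtain ⟨g, hg⟩ := (C.hG _).2 hmemO
  have himg := order_image (QuotientGroup.mk' K) hp hr (by rw [hker]; exact h2K) (by rw [hker]; exact hrK) h hg
  -- it is in `S`
  set a := QuotientGroup.mk' K g with hadef
  have ha0 : 0 < orderOf a := orderOf_pos a
  have haS : a ∈ S := by
    refine hmem (a ^ (orderOf a / r)) a ?_ ((Commute.refl a).pow_right _)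
    have hra : r ∣ orderOf a := by
      rw [himg]
      exact (Nat.dvd_mul_left r _).mul_right _
    rw [orderOf_pow_of_dvd (Nat.div_pos (Nat.le_of_dvd ha0 hra) hr.pos).ne' (Nat.div_dvd_of_dvd hra),
      Nat.div_div_self hra ha0.ne']
  obtain ⟨e⟩ := C.iso
  have h21 : (2 : F) ≠ 0 := Cfsg.Agent.H229.T.two_ne_zero_of_odd (by rw [C.hF]; exact hodd)
  refine Cfsg.Agent.H104.NoElt.no_elt_oodd h21 (n := n) (m := d) (c := c) (by omega) P.cd (by omega) hr hr2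
    (by rw [C.hF]; exact P.min) (b := bb) ?_ P.jj1 P.jju (e ⟨a, haS⟩) ?_
  · rw [C.hF]
    have hbbE : ¬ 2 ^ bb ∣ E / 2 := by
      intro h1
      apply P.bb2
      obtain ⟨t, ht⟩ := hE0
      rw [ht, Nat.mul_div_cancel_left _ (by norm_num)] at h1
      rw [ht, pow_succ']
      exact Nat.mul_dvd_mul_left _ h1
    rcases P.hE with h | h
    · right
      rw [← h]
      exact ⟨P.rE, hbbE⟩
    · left
      rw [← h]
      exact ⟨P.rE, hbbE⟩
  · rw [MulEquiv.orderOf_eq, ← Subgroup.orderOf_coe]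
    exact himg

/-- The final contradiction from `CBad`. -/
theorem C8.fin (C : C8 p n k F₁ F K S s2) {c d jj r E bb : ℕ} (P : Par p n k c d jj r E bb)
    (hc : ∀ j0, 2 ≤ j0 → 2 ^ j0 < n → n ≤ 2 * 2 ^ j0 → c < 2 ^ j0)
    (hmem : ∀ z x : G ⧸ K, orderOf z = r → Commute x z → x ∈ S)
    (hB : ∀ x : F, x ≠ 0 → CBad.{u} (Om (D F (2 * c + 1) x)) (om n F₁) p r) : False := by
  have hn := C.hn
  have hp := C.hp
  have := Fact.mk hp
  have := C.ch₁
  have := C.ch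
  have hPn := P.hn
  have hPc := P.c1
  have hPcd := P.cd
  have hr := P.cls.hr
  have hr2 := P.cls.hr2
  obtain ⟨s, hs, ho, hsS, hsp, hsp'⟩ := C.exists_s
  obtain ⟨y, hb⟩ := C.base hs hsS
  have hrK := C.r_K P hc
  have hrp : r ≠ p := by
    rintro rfl
    apply P.cls.hrq
    exact dvd_pow_self _ (by have := C.hk; omega)
  have hker : (QuotientGroup.mk' K).ker = K := QuotientGroup.ker_mk' K
  have hsurj := QuotientGroup.mk'_surjective K
  have hOm : ∀ g : G, orderOf g ∈ om n F₁ := fun g => (C.hG _).1 ⟨g, rfl⟩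
  refine C.fin' P hrK hmem ?_
  intro a u ha hu hup
  have hα : orderOf (QuotientGroup.mk' K a) = r := by
    rcases (Nat.dvd_prime hr).1 (ha ▸ orderOf_map_dvd (QuotientGroup.mk' K) a) with h | h
    · exfalso
      apply hrK
      rw [orderOf_eq_one_iff] at h
      have h1 : a ∈ K := by rw [← hker]; exact h
      rw [← ha]
      exact Subgroup.orderOf_dvd_natCard _ h1
    · exact h
  have h21 : (2 : F) ≠ 0 := Cfsg.Agent.H229.T.two_ne_zero_of_odd (by rw [C.hF]; exact C.odd)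
  obtain ⟨e⟩ := C.iso
  obtain ⟨x, hx, f, hf⟩ := Cfsg.Agent.H104.CBadOm.exists_hom h21 (n := n) (m := d) (c := c) (r := r) (p := p) (by omega)
    (by omega) P.cd hr hr2 hrp (Cfsg.Agent.H104.CBadOm.prim_of_min (by rw [C.hF]; exact C.odd.pos) (by omega)
      (by rw [C.hF]; exact P.min) (by
        rw [C.hF]
        rcases P.hE with h | h
        · right; rw [← h]; exact P.rE
        · left; rw [← h]; exact P.rE)) e (hmem _ _ hα (Commute.refl _)) hα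
  exact no_commute hb hp hr hrp hsp' hsp (Cfsg.Agent.H104.CBadOm.CBad.mono hf (hB x hx)) _ G (QuotientGroup.mk' K) rfl
    hsurj (by rw [hker]; exact C.sol) hOm (by rw [hker]; exact C.hs s hs ho) (by rw [hker]; exact hrK) a u rfl ha hu hup

end

end Cfsg.Agent.H403.S88
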