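import Mathlib
import Cfsg.Agent.H403.S88.K8B

/-!
# S3588: `L = PSp_2n(q)`, `S = Ω_2n+1(q)`, `q` odd: the cases (helper403)
-/

set_option autoImplicit false
set_option linter.unusedSectionVars false

namespace Cfsg.Agent.H403.S88

open Subgroup Cfsg Cfsg.Agent.H403.S88.Grp Cfsg.Agent.H390 Cfsg.Agent.H390.NonAdj
open QuadraticMap Module Cfsg.Agent.H229.T
open Cfsg.Agent.LieClassical.OrthCore Cfsg.Agent.LieClassical.OrthForms Cfsg.Agent.LieClassical.OrthFinite

universe u

section

variable {p n k : ℕ} {F₁ F : Type} [Field F₁] [Fintype F₁] [Field F] [Fintype F] {G : Type u} [Group G] [Finite G]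
  {K : Subgroup G} [K.Normal] {S : Subgroup (G ⧸ K)} {s2 : ℕ}

/-- the elements commuting with elements of order `r` are in `S` -/
def Mem (p n k : ℕ) {G : Type u} [Group G] {K : Subgroup G} [K.Normal] (S : Subgroup (G ⧸ K)) : Prop :=
  ∀ {d r : ℕ}, r.Prime → (n < d ∨ (2 * n < 3 * d ∧ Odd k)) → orderOf (p : ZMod r) = d * k →
    ∀ z x : G ⧸ K, orderOf z = r → Commute x z → x ∈ S

theorem Par.mem' {c d jj r E bb : ℕ} (P : Par p n k c d jj r E bb) (h : Mem p n k S) :
    ∀ z x : G ⧸ K, orderOf z = r → Commute x z → x ∈ S := by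
  obtain ⟨e, h1, h2⟩ := P.mem
  exact h P.cls.hr h1 h2

/-- the case `c = 1` -/
theorem C8.fin_one (C : C8 p n k F₁ F K S s2) (hm : Mem p n k S) {r E bb : ℕ} (P : Par p n k 1 (n - 1) 1 r E bb)
    (h3 : ¬ 3 ∣ E) (hc : p ≠ 3 ∨ (p = 3 ∧ 9 ≤ p ^ k ∧ E = (p ^ k) ^ (n - 1) + 1)) : False := by
  have hn := C.hn
  have hp := C.hp
  have hodd := C.odd
  have := Fact.mk hp
  have := C.ch₁
  have := C.ch
  have hr := P.cls.hr
  have hr3 : r ≠ 3 := by
    rintro rfl
    exact h3 P.rE
  have h20 : (2 : F) ≠ 0 := Cfsg.Agent.H229.T.two_ne_zero_of_odd (by rw [C.hF]; exact hodd)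
  have key : ∀ x : PSp n F₁, p ∣ orderOf x → r ∣ orderOf x → orderOf x ∣ p * E := fun x h1 h2 =>
    psp_dvd_pE (F := F₁) (by rw [C.hF₁]; exact hodd) (by omega) (by rw [C.hF₁]; exact P.cls) x h1 h2
  refine C.fin P (fun j0 h1 _ _ => ?_) (P.mem' hm) (fun x hx => ?_)
  · exact Nat.one_lt_two_pow (by omega)
  have hX : 3 * p * r ∉ om n F₁ := by
    rintro ⟨x, hx⟩
    have h4 := key x (by rw [hx]; exact (Nat.dvd_mul_left p 3).mul_right r) (by rw [hx]; exact Nat.dvd_mul_left _ _)
    rw [hx] at h4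
    have h5 : 3 * r ∣ E := by
      apply Nat.dvd_of_mul_dvd_mul_left hp.pos
      rwa [show p * (3 * r) = 3 * p * r by ring]
    exact h3 ((Nat.dvd_mul_right 3 r).trans h5)
  rcases hc with hc | ⟨hc, h9, hE⟩
  · have h30 : (3 : F) ≠ 0 := by
      intro h
      have h4 : ((3 : ℕ) : F) = 0 := by exact_mod_cast h
      exact hc ((Nat.prime_dvd_prime_iff_eq hp Nat.prime_three).1 ((CharP.cast_eq_zero_iff F p 3).1 h4))
    exact Cfsg.Agent.H104.CBadOm.cbad_a h20 h30 hx hp C.hp2 hc hr hr3 hX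
  · subst hc
    set q := 3 ^ k with hq
    have hmin := P.min 1 (by norm_num) (by omega)
    rw [pow_one] at hmin
    obtain ⟨m, hm'⟩ := hodd
    have hq2 : (q - 1) / 2 = m := by omega
    have hX' : m * 3 * r ∉ om n F₁ := by
      rintro ⟨x, hx⟩
      have h4 := key x (by rw [hx]; exact (Nat.dvd_mul_left 3 m).mul_right r) (by rw [hx]; exact Nat.dvd_mul_left _ _)
      rw [hx] at h4
      have h5 : m * r ∣ E := by
        apply Nat.dvd_of_mul_dvd_mul_left (show 0 < 3 by norm_num)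
        rwa [show 3 * (m * r) = m * 3 * r by ring]
      have h6 : m ∣ E := (Nat.dvd_mul_right m r).trans h5
      rw [hE] at h6
      have h7 : m ∣ q ^ (n - 1) - 1 := by
        have h8 : q - 1 ∣ q ^ (n - 1) - 1 := by
          have := Nat.sub_dvd_pow_sub_pow q 1 (n - 1)
          rwa [one_pow] at this
        exact (Dvd.intro_left 2 (by omega)).trans h8
      have h9 : 1 ≤ q ^ (n - 1) := Nat.one_le_pow _ _ (by omega)
      have h10 : m ∣ 2 := by
        have := Nat.dvd_sub h6 h7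
        rwa [show q ^ (n - 1) + 1 - (q ^ (n - 1) - 1) = 2 by omega] at this
      have := Nat.le_of_dvd (by norm_num) h10
      omega
    have hcop : Nat.Coprime m r := by
      rw [Nat.coprime_comm]
      refine (Nat.Prime.coprime_iff_not_dvd hr).2 (fun h => hmin.1 ?_)
      exact h.trans (Dvd.intro_left 2 (by omega))
    refine Cfsg.Agent.H104.CBadOm.cbad_b h20 (by rw [C.hF]; exact dvd_pow_self 3 (by have := C.hk; omega)) hx hr hr3 ?_ hX ?_
    · rw [C.hF, ← hq, hq2]
      exact hcop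
    · rw [C.hF, ← hq, hq2]
      exact hX'

/-- the case `2 c + 1` prime -/
theorem C8.fin_t (C : C8 p n k F₁ F K S s2) (hm : Mem p n k S) {c d jj r bb E' : ℕ}
    (P : Par p n k c d jj r ((p ^ k) ^ d + 1) bb) (hc : ∀ j0, 2 ≤ j0 → 2 ^ j0 < n → n ≤ 2 * 2 ^ j0 → c < 2 ^ j0)
    (ht : (2 * c + 1).Prime) (ht5 : 5 ≤ 2 * c + 1) (hpt : p ≠ 2 * c + 1) (hc' : Cls (p ^ k) (2 * c + 1) c E')
    (hEp' : ¬ p ∣ E') (htE : ¬ 2 * c + 1 ∣ (p ^ k) ^ d + 1) : False := by
  have hn := C.hn
  have hp := C.hp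
  have hodd := C.odd
  have := Fact.mk hp
  have := C.ch₁
  have := C.ch
  have hr := P.cls.hr
  have hrt : r ≠ 2 * c + 1 := by
    rintro rfl
    exact htE P.rE
  have hPcd := P.cd
  have hEp : ¬ p ∣ (p ^ k) ^ d + 1 := by
    intro h
    have h1 : p ∣ (p ^ k) ^ d := dvd_pow (dvd_pow_self p (by have := C.hk; omega)) (by omega)
    exact hp.one_lt.ne' (Nat.dvd_one.1 ((Nat.dvd_add_right h1).1 h))
  have h20 : (2 : F) ≠ 0 := Cfsg.Agent.H229.T.two_ne_zero_of_odd (by rw [C.hF]; exact hodd)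
  refine C.fin P hc (P.mem' hm) (fun x hx => ?_)
  refine Cfsg.Agent.H104.CBadOm.cbad_c h20 ht ht5 hx hp C.hp2 hpt hr hrt ?_
  rintro ⟨x, hx⟩
  refine psp_no_ptr (F := F₁) (p := p) (by rw [C.hF₁]; exact hodd) P.hn P.cd (by rw [C.hF₁]; exact P.cls) ?_
    (by rw [C.hF₁]; exact hc') hEp hEp' htE x hx
  intro h
  exfalso
  rw [C.hF₁] at h
  have : 1 ≤ (p ^ k) ^ d := Nat.one_le_pow _ _ hodd.pos
  omega

/-- `n = 8`, `q = 3` -/
theorem C8.three_K (C : C8 3 8 1 F₁ F K S s2) : ¬ 3 ∣ Nat.card K := by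
  classical
  have hodd := C.odd
  obtain ⟨e⟩ := C.exists_om
  have h2 : (2 : F) ≠ 0 := Cfsg.Agent.H229.T.two_ne_zero_of_odd (by rw [C.hF]; exact hodd)
  obtain ⟨U, c, hc, hn, hfix, hU, hU1⟩ := Cfsg.Agent.H104.CBadOm.exists_frob_t (t := 17) h2 (by norm_num) (by norm_num)
    (nondeg_oddForm 8 F h2) (by simp)
  obtain ⟨s, hs, ho, hsS, hsp, hsp'⟩ := C.exists_s
  obtain ⟨y, hb⟩ := C.base hs hsS
  have h17 : orderOf ((3 : ℕ) : ZMod 17) = 2 * 8 * 1 := by
    have : orderOf ((3 : ℕ) : ZMod 17) = 2 ^ (3 + 1) := orderOf_eq_prime_pow (by decide) (by decide)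
    rw [this]
    norm_num
  have h17' := (C.sp (s := 17) (by norm_num) h17).2.1
  let ι : Om (oddForm 8 F) →* G ⧸ K := S.subtype.comp e.symm.toMonoidHom
  have hι : Function.Injective ι := S.subtype_injective.comp e.symm.injective
  have hcard : Nat.card (U.map ι) = Nat.card U := Nat.card_congr (U.equivMapOfInjective ι hι).symm.toEquiv
  have hker : (QuotientGroup.mk' K).ker = K := QuotientGroup.ker_mk' K
  have key := not_dvd_card hb C.simple Nat.prime_three hsp' hsp (Q := U.map ι) (c := ι c) (by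
      rintro _ ⟨a, -, rfl⟩
      exact (e.symm a).2) (by
      rintro _ ⟨a, ha, rfl⟩
      exact ⟨c * a * c⁻¹, hn a ha, by rw [map_mul, map_mul, map_inv]⟩) (by
      rintro i hi0 hi _ ⟨a, ha, rfl⟩ hcomm
      rw [orderOf_injective ι hι] at hi
      rw [← map_pow, ← map_mul, ← map_mul] at hcomm
      rw [hfix i hi0 hi a ha (hι hcomm), map_one]) (by
      rw [hcard]
      exact Nat.Coprime.coprime_dvd_left hU (by norm_num)) (by
      intro h
      apply hU1
      rw [eq_bot_iff]
      intro a ha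
      have h1 : ι a ∈ U.map ι := ⟨a, ha, rfl⟩
      rw [h, mem_bot] at h1
      rw [mem_bot]
      exact hι (by rw [h1, map_one])) (by
      rw [orderOf_injective ι hι, hc]
      exact h17') _ G (QuotientGroup.mk' K) rfl (QuotientGroup.mk'_surjective K) (by rw [hker]; exact C.sol)
    (fun g => (C.hG _).1 ⟨g, rfl⟩) (by rw [hker]; exact C.hs s hs ho)
  rwa [hker] at key

theorem not_dvd_five {m : ℕ} (h : m % 4 ≠ 2) : ¬ 5 ∣ 3 ^ m + 1 := by
  obtain ⟨a, b, hb, rfl⟩ : ∃ a b, b < 4 ∧ m = 4 * a + b := ⟨m / 4, m % 4, Nat.mod_lt _ (by norm_num), (Nat.div_add_mod m 4).symm⟩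
  have h1 : 3 ^ (4 * a + b) % 5 = 3 ^ b % 5 := by
    rw [pow_add, pow_mul, Nat.mul_mod, Nat.pow_mod]
    norm_num
  intro h2
  have h3 := Nat.mod_eq_zero_of_dvd h2
  rw [Nat.add_mod, h1] at h3
  interval_cases b <;> first | (simp at h3; omega) | (simp at h3)

theorem not_dvd_eleven (m : ℕ) : ¬ 11 ∣ 3 ^ m + 1 := by
  obtain ⟨a, b, hb, rfl⟩ : ∃ a b, b < 5 ∧ m = 5 * a + b := ⟨m / 5, m % 5, Nat.mod_lt _ (by norm_num), (Nat.div_add_mod m 5).symm⟩
  have h1 : 3 ^ (5 * a + b) % 11 = 3 ^ b % 11 := by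
    rw [pow_add, pow_mul, Nat.mul_mod, Nat.pow_mod]
    norm_num
  intro h2
  have h3 := Nat.mod_eq_zero_of_dvd h2
  rw [Nat.add_mod, h1] at h3
  interval_cases b <;> simp at h3

/-- **All cases.** -/
theorem C8.main (C : C8 p n k F₁ F K S s2) (hm : Mem p n k S) : False := by
  have hn := C.hn
  have hp := C.hp
  have hp2 := C.hp2
  have hk := C.hk
  have hodd := C.odd
  have := Fact.mk hp
  have hp3 : 3 ≤ p := by
    have := hp.two_le
    omega
  by_cases h3 : p = 3
  · subst h3
    by_cases hk1 : k = 1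
    · subst hk1
      by_cases h4 : n % 4 = 0
      · by_cases h8 : n = 8
        · subst h8
          obtain ⟨r, bb, P⟩ := par_plus (p := 3) (n := 8) (k := 1) (c := 1) (d := 7) (jj := 1) hp hp2 le_rfl rfl le_rfl
            (by norm_num) (by norm_num) le_rfl (by norm_num) (by norm_num)
          have h3K := C.three_K
          have hker : (QuotientGroup.mk' K).ker = K := QuotientGroup.ker_mk' K
          refine C.fin' P (C.r_K P (fun j0 h1 _ _ => Nat.one_lt_two_pow (by omega))) (P.mem' hm) ?_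
          intro a u ha hu hup
          exfalso
          apply h3K
          rw [← hup]
          rw [hker] at hu
          exact Subgroup.orderOf_dvd_natCard _ hu
        · have hn12 : 12 ≤ n := by omega
          obtain ⟨r, bb, P⟩ := par_plus (p := 3) (n := n) (k := 1) (c := 5) (d := n - 5) (jj := 3) hp hp2 le_rfl
            (by omega) (by norm_num) (by omega) (by omega) (by norm_num) (by norm_num) (by norm_num)
          have h11 : orderOf ((3 : ℕ) : ZMod 11) = 5 := by
            have := Fact.mk (show Nat.Prime 5 by norm_num)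
            exact orderOf_eq_prime (by decide) (by decide)
          refine C.fin_t hm (E' := 3 ^ 5 - 1) P (fun j0 _ _ h2 => by omega) (by norm_num) (by norm_num) (by norm_num) ?_
            (by norm_num) ?_
          · rw [pow_one]
            exact cls_odd (by norm_num) (by norm_num) (by decide) (by norm_num) h11
          · rw [pow_one]
            exact not_dvd_eleven _
      · obtain ⟨r, bb, P⟩ := par_plus (p := 3) (n := n) (k := 1) (c := 2) (d := n - 2) (jj := 2) hp hp2 le_rfl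
            (by omega) (by norm_num) (by omega) (by omega) (by norm_num) (by norm_num) (by norm_num)
        have h5 : orderOf ((3 : ℕ) : ZMod 5) = 2 * 2 := by
          have : orderOf ((3 : ℕ) : ZMod 5) = 2 ^ (1 + 1) := orderOf_eq_prime_pow (by decide) (by decide)
          rw [this]
          norm_num
        refine C.fin_t hm (E' := 3 ^ 2 + 1) P (fun j0 h1 _ _ => ?_) (by norm_num) (by norm_num) (by norm_num) ?_
            (by norm_num) ?_
        · have : (2 : ℕ) ^ 2 ≤ 2 ^ j0 := Nat.pow_le_pow_right (by norm_num) h1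
          omega
        · rw [pow_one]
          exact cls_even (by norm_num) (by norm_num) (by norm_num) h5
        · rw [pow_one]
          exact not_dvd_five (by omega)
    · obtain ⟨r, bb, P⟩ := par_plus (p := 3) (n := n) (k := k) (c := 1) (d := n - 1) (jj := 1) hp hp2 hk
            (by omega) (by norm_num) (by omega) (by omega) (by norm_num) (by norm_num) (by norm_num)
      refine C.fin_one hm P ?_ (Or.inr ⟨rfl, ?_, rfl⟩)
      · intro h
        have h1 : 3 ∣ (3 ^ k) ^ (n - 1) := dvd_pow (dvd_pow_self 3 (by omega)) (by omega)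
        have := Nat.dvd_one.1 ((Nat.dvd_add_right h1).1 h)
        omega
      · have : 3 ^ 2 ≤ 3 ^ k := Nat.pow_le_pow_right (by norm_num) (by omega)
        omega
  · by_cases hE : 3 ∣ (p ^ k) ^ (n - 1) + 1
    · -- `q ≡ 2 mod 3`, `n - 1`, `k` odd
      have hpk : Odd (k * (n - 1)) ∧ p % 3 = 2 := by
        have h0 : p % 3 = 1 ∨ p % 3 = 2 := by
          have h5 : ¬ 3 ∣ p := fun h => h3 ((Nat.prime_dvd_prime_iff_eq Nat.prime_three hp).1 h).symm
          omega
        rw [← pow_mul] at hE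
        have h4 := Nat.mod_eq_zero_of_dvd hE
        rcases h0 with h0 | h0
        · exfalso
          rw [Nat.add_mod, Nat.pow_mod, h0, one_pow] at h4
          norm_num at h4
        · refine ⟨?_, h0⟩
          by_contra hcon
          obtain ⟨a, ha⟩ := Nat.not_odd_iff_even.1 hcon
          rw [ha, ← two_mul, Nat.add_mod, Nat.pow_mod, h0, pow_mul, Nat.pow_mod] at h4
          norm_num at h4
      obtain ⟨ho, hp3'⟩ := hpk
      obtain ⟨ho1, ho2⟩ := Nat.odd_mul.1 ho
      have hev : Even n := by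
        obtain ⟨a, ha⟩ := ho2
        exact ⟨a + 1, by omega⟩
      obtain ⟨r, bb, P⟩ := par_minus hp hp2 ho1 hn hev
      refine C.fin_one hm P ?_ (Or.inl h3)
      intro h
      have h5 : 1 ≤ (p ^ k) ^ (n - 1) := Nat.one_le_pow _ _ hodd.pos
      have h6 := Nat.dvd_sub hE h
      rw [show (p ^ k) ^ (n - 1) + 1 - ((p ^ k) ^ (n - 1) - 1) = 2 by omega] at h6
      exact absurd (Nat.le_of_dvd (by norm_num) h6) (by norm_num)
    · obtain ⟨r, bb, P⟩ := par_plus (p := p) (n := n) (k := k) (c := 1) (d := n - 1) (jj := 1) hp hp2 hk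
            (by omega) (by norm_num) (by omega) (by omega) (by norm_num) (by norm_num) (by norm_num)
      exact C.fin_one hm P hE (Or.inl h3)

end

end Cfsg.Agent.H403.S88
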