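import Cfsg.Agent.H403.S88.NotL2
import Cfsg.Agent.H481.OddAut.Main
import Cfsg.Agent.H597.SpNoHub

/-!
# S3588: `L = PSp_2n(q)`, `S = Ω_2n+1(q)`, `q` odd: conclusion (helper403)

* `kill_c_oodd`, with the condition on the primes of class `2 n` and `|K|` as an assumption.
-/

set_option autoImplicit false
set_option linter.unusedSectionVars false

namespace Cfsg.Agent.H403.S88

open Subgroup Cfsg Cfsg.Agent.H414.LieShape Cfsg.Agent.H426.LieFam

universe u v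

variable {p n k : ℕ} {L : Type v} [Group L] {G : Type u} [Group G] [Finite G] {K : Subgroup G} [K.Normal]
  {S : Subgroup (G ⧸ K)}

/-- **`L = C_n`, `S = B_n`, `q` odd** -/
theorem kill_c_oodd' (h : Dat p .c n k L G) (R : Fr K S) (hp2 : p ≠ 2) (hS : Fam.Is p k S (.oodd n))
    (hs : ∀ s : ℕ, s.Prime → orderOf (p : ZMod s) = 2 * n * k → ¬ s ∣ Nat.card K) : False := by
  obtain ⟨-, -, F₁, _, _, _, hF₁, ⟨i⟩⟩ := h.hL
  obtain ⟨-, hodd, F, _, _, hch, hF, ⟨e⟩⟩ := hS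
  have hn := h.hn
  have hk := h.hk
  have hp := h.hp
  have := Fact.mk hp
  have hG : ∀ m, (∃ g : G, orderOf g = m) ↔ m ∈ om n F₁ := by
    intro m
    rw [h.hsp]
    constructor
    · rintro ⟨g, hg⟩
      exact ⟨i g, by rw [MulEquiv.orderOf_eq, hg]⟩
    · rintro ⟨g, hg⟩
      exact ⟨i.symm g, by rw [MulEquiv.orderOf_eq, hg]⟩
  have hodd₁ : Odd (Fintype.card F₁) := by rw [hF₁]; exact hodd
  have hcard : Nat.card S = Nat.card (PSp n F₁) := by
    rw [Nat.card_congr e.toEquiv]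
    exact card_eq (by rw [hF₁, hF]) (by rw [hF]; exact hodd) (by omega)
  have hub : ∀ w, w.Prime → ∃ z, z.Prime ∧ z ≠ w ∧ z ∣ Nat.card S ∧ z * w ∉ om n F₁ := by
    intro w hw
    obtain ⟨z, hz, hzw, hzd, hz2⟩ := Cfsg.Agent.H597.SpHub.exists_nonadj (F := F₁) hodd₁ hn w hw
    refine ⟨z, hz, hzw, by rw [hcard]; exact hzd, ?_⟩
    rintro ⟨x, hx⟩
    exact hz2 x hx
  obtain ⟨s2, h1, h2, h3, h4⟩ := hub 2 Nat.prime_two
  have hspG : s2 ∣ Nat.card G :=
    h3.trans ((Subgroup.card_subgroup_dvd_card S).trans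
      (Dvd.intro _ (Subgroup.card_eq_card_quotient_mul_card_subgroup K).symm))
  have hs2K : ¬ s2 ∣ Nat.card K ∧ ¬ s2 ∣ S.index := by
    rcases R.two with (⟨⟨e'⟩⟩ | ⟨F', _, _, h2', ⟨e'⟩⟩) | h5
    · exact (not_alt7 hp hp2 hk hn hF (e.symm.trans e')).elim
    · exact (not_psl2 (F₁ := F₁) hp hp2 hk hn hF hF₁ h2' (e.symm.trans e')).elim
    · refine h5 s2 h1 h2 hspG ?_
      rintro ⟨x, hx⟩
      apply h4
      rw [mul_comm]
      exact (hG _).1 ⟨x, hx⟩
  have C : C8 p n k F₁ F K S s2 :=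
    { hp := hp, hp2 := hp2, hn := hn, hk := hk, hF₁ := hF₁, hF := hF, ch₁ := inferInstance, ch := hch, sol := R.solv,
      norm := R.norm, simple := R.simple, cent := R.cent, iso := ⟨e⟩, hG := hG, hs := hs, s2p := h1, s22 := h2, s2d := h3,
      s2o := h4, s2K := hs2K.1, hub := hub }
  have hs2p : s2 ≠ p := by
    rintro rfl
    apply h4
    have h20 : (2 : F₁) ≠ 0 := Cfsg.Agent.H229.T.two_ne_zero_of_odd hodd₁
    obtain ⟨⟨x, hx⟩, -⟩ := Cfsg.Agent.H497.Spec.exists_unip_tor F₁ (p := s2) h20 (c := 1) (d := n - 1) (j := 1) le_rfl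
      (by omega) le_rfl (by norm_num)
    have h6 : om (1 + (n - 1)) F₁ = om n F₁ := by rw [show 1 + (n - 1) = n by omega]
    rw [← h6]
    refine om_dvd _ _ ?_ ⟨x, hx⟩
    rw [pow_one]
    apply Nat.mul_dvd_mul_left
    obtain ⟨m, hm⟩ := hodd₁.pow (n := n - 1)
    exact ⟨m + 1, by omega⟩
  refine C.main ?_
  intro d r hr hd ho z x hz hx
  have := R.norm
  refine Cfsg.Agent.H481.OddAut.mem hF (by rw [hF]; exact hodd) (by omega) S R.cent e h1 h2 hs2p h3 ?_ hr hd ho hz hx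
  intro y hy
  obtain ⟨g, rfl⟩ := QuotientGroup.mk_surjective y
  have h6 : s2 * 2 ∣ orderOf g := by
    rw [mul_comm, ← hy]
    exact orderOf_map_dvd (QuotientGroup.mk' K) g
  exact h4 (om_dvd _ _ h6 ((hG _).1 ⟨g, rfl⟩))

end Cfsg.Agent.H403.S88
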