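import Mathlib
import Cfsg.Agent.H403.S88.K8C
import Cfsg.Agent.H714.PslTor

/-!
# S3588: `Ω_2n+1(q)` is not `PSL_2(q')`, `q'` odd, and not `A_7` (helper403)
-/

set_option autoImplicit false
set_option linter.unusedSectionVars false

namespace Cfsg.Agent.H403.S88

open Subgroup Cfsg Cfsg.Agent.H403.S88.Grp Cfsg.Agent.H390 Cfsg.Agent.H390.NonAdj
open QuadraticMap Module Cfsg.Agent.H229.T Matrix MatrixGroups
open Cfsg.Agent.LieClassical.OrthCore Cfsg.Agent.LieClassical.OrthForms Cfsg.Agent.LieClassical.OrthFinite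

universe u

/-- the centralizer of a nonscalar matrix of degree two is commutative -/
theorem comm_two {F : Type*} [Field F] {A B C : Matrix (Fin 2) (Fin 2) F}
    (hA : ¬ (A 0 1 = 0 ∧ A 1 0 = 0 ∧ A 0 0 = A 1 1)) (hB : A * B = B * A) (hC : A * C = C * A) : B * C = C * B := by
  have e : ∀ (X Y : Matrix (Fin 2) (Fin 2) F) (i j : Fin 2), (X * Y) i j = X i 0 * Y 0 j + X i 1 * Y 1 j := by
    intro X Y i j
    rw [Matrix.mul_apply, Fin.sum_univ_two]
  have eqs : ∀ X : Matrix (Fin 2) (Fin 2) F, A * X = X * A → A 0 1 * X 1 0 = A 1 0 * X 0 1 ∧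
      (A 0 0 - A 1 1) * X 0 1 = A 0 1 * (X 0 0 - X 1 1) ∧ (A 0 0 - A 1 1) * X 1 0 = A 1 0 * (X 0 0 - X 1 1) := by
    intro X h
    have h00 := congrFun (congrFun h 0) 0
    have h01 := congrFun (congrFun h 0) 1
    have h10 := congrFun (congrFun h 1) 0
    rw [e, e] at h00 h01 h10
    exact ⟨by linear_combination h00, by linear_combination h01, by linear_combination -h10⟩
  obtain ⟨b1, b2, b3⟩ := eqs B hB
  obtain ⟨c1, c2, c3⟩ := eqs C hC
  have hz : ∀ x : F, (A 0 0 - A 1 1) * x = 0 → A 0 1 * x = 0 → A 1 0 * x = 0 → x = 0 := by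
    intro x h1 h2 h3
    by_contra hx
    exact hA ⟨(mul_eq_zero.1 h2).resolve_right hx, (mul_eq_zero.1 h3).resolve_right hx,
      sub_eq_zero.1 ((mul_eq_zero.1 h1).resolve_right hx)⟩
  have key : B 0 1 * C 1 0 - B 1 0 * C 0 1 = 0 ∧ (B 0 0 - B 1 1) * C 0 1 - B 0 1 * (C 0 0 - C 1 1) = 0 ∧
      (B 0 0 - B 1 1) * C 1 0 - B 1 0 * (C 0 0 - C 1 1) = 0 := by
    refine ⟨hz _ ?_ ?_ ?_, hz _ ?_ ?_ ?_, hz _ ?_ ?_ ?_⟩
    · linear_combination (C 1 0) * b2 - (C 0 1) * b3 + (B 0 0 - B 1 1) * c1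
    · linear_combination (B 0 1) * c1 - (C 0 1) * b1
    · linear_combination (B 1 0) * c1 - (C 1 0) * b1
    · linear_combination (B 0 0 - B 1 1) * c2 - (C 0 0 - C 1 1) * b2
    · linear_combination (B 0 1) * c2 - (C 0 1) * b2
    · linear_combination (-(C 0 1)) * b3 + (C 0 0 - C 1 1) * b1 + (B 1 0) * c2
    · linear_combination (B 0 0 - B 1 1) * c3 - (C 0 0 - C 1 1) * b3
    · linear_combination (-(C 1 0)) * b2 - (C 0 0 - C 1 1) * b1 + (B 0 1) * c3
    · linear_combination (B 1 0) * c3 - (C 1 0) * b3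
  obtain ⟨k1, k2, k3⟩ := key
  ext i j
  fin_cases i <;> fin_cases j <;> simp only [Fin.zero_eta, Fin.mk_one, Fin.isValue, e]
  · linear_combination k1
  · linear_combination k2
  · linear_combination -k3
  · linear_combination -k1

/-- centralizers in `PSL_2` of elements of order at least three are commutative -/
theorem comm_psl2 {F : Type*} [Field F] (h2 : (2 : F) ≠ 0) {x y z : ProjectiveSpecialLinearGroup (Fin 2) F}
    (hx : x * x ≠ 1) (hy : x * y = y * x) (hz : x * z = z * x) : y * z = z * y := by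
  obtain ⟨A, rfl⟩ := QuotientGroup.mk_surjective x
  obtain ⟨B, rfl⟩ := QuotientGroup.mk_surjective y
  obtain ⟨C, rfl⟩ := QuotientGroup.mk_surjective z
  have hA : A * A ≠ -1 := by
    intro h
    apply hx
    exact (Cfsg.Agent.H714.PslTor.pr_eq_one_iff (A := A * A)).2 (Or.inr h)
  have hA1 : A * A ≠ 1 := by
    intro h
    apply hx
    exact (Cfsg.Agent.H714.PslTor.pr_eq_one_iff (A := A * A)).2 (Or.inl h)
  have hB := Cfsg.Agent.H714.PslTor.comm_of_pr_comm h2 hA hy
  have hC := Cfsg.Agent.H714.PslTor.comm_of_pr_comm h2 hA hz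
  have h1 : B * C = C * B := by
    apply Subtype.ext
    refine comm_two (A := (A : Matrix (Fin 2) (Fin 2) F)) ?_ (congrArg Subtype.val hB) (congrArg Subtype.val hC)
    rintro ⟨h3, h4, h5⟩
    apply hA1
    have hdet := A.2
    rw [Matrix.det_fin_two, h3, h5] at hdet
    apply Subtype.ext
    ext i j
    have e : ∀ (X Y : Matrix (Fin 2) (Fin 2) F) (i j : Fin 2), (X * Y) i j = X i 0 * Y 0 j + X i 1 * Y 1 j := by
      intro X Y i j
      rw [Matrix.mul_apply, Fin.sum_univ_two]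
    show ((A : Matrix (Fin 2) (Fin 2) F) * A) i j = (1 : Matrix (Fin 2) (Fin 2) F) i j
    fin_cases i <;> fin_cases j <;>
      simp only [Fin.zero_eta, Fin.mk_one, Fin.isValue, e, Matrix.one_apply, h3, h4, h5] <;> simp <;>
      linear_combination hdet
  show (QuotientGroup.mk (B * C) : ProjectiveSpecialLinearGroup (Fin 2) F) = QuotientGroup.mk (C * B)
  rw [h1]

/-- `Ω_2n+1(q)` is not `PSL_2(q')` -/
theorem not_psl2 {F F₁ : Type} [Field F] [Fintype F] [Field F₁] [Fintype F₁] {p n k : ℕ} (hp : p.Prime) (hp2 : p ≠ 2)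
    (hk : 1 ≤ k) (hn : 5 ≤ n) (hF : Fintype.card F = p ^ k) (hF₁ : Fintype.card F₁ = p ^ k) [CharP F p]
    {F' : Type} [Field F'] [Fintype F'] (h2' : Odd (Fintype.card F'))
    (e : POmega F (quadFormOdd n F) ≃* ProjectiveSpecialLinearGroup (Fin 2) F') : False := by
  classical
  have := Fact.mk hp
  have hodd : Odd (p ^ k) := (hp.odd_of_ne_two hp2).pow
  obtain ⟨r, bb, P⟩ := par_plus (p := p) (n := n) (k := k) (c := 1) (d := n - 1) (jj := 1) hp hp2 hk
    (by omega) (by norm_num) (by omega) (by omega) (by norm_num) (by norm_num) (by norm_num)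
  have hr := P.cls.hr
  have hr2 := P.cls.hr2
  have := Fact.mk hr
  have hrp : r ≠ p := by
    rintro rfl
    apply P.cls.hrq
    exact dvd_pow_self _ (by omega)
  have h20 : (2 : F) ≠ 0 := Cfsg.Agent.H229.T.two_ne_zero_of_odd (by rw [hF]; exact hodd)
  have h20' : (2 : F') ≠ 0 := Cfsg.Agent.H229.T.two_ne_zero_of_odd h2'
  have ho : orderOf ((Nat.card F₁ : ℕ) : ZMod r) = 2 * (n - 1) := by
    rw [Nat.card_eq_fintype_card, hF₁]
    rcases P.ord with h | ⟨h, h'⟩
    · exact h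
    · exfalso
      -- both
      rcases P.cls.cls with ⟨h1, -⟩ | ⟨-, -, -, h1⟩
      · have := h1 (n - 1) (by
          rw [← ZMod.natCast_eq_zero_iff, Nat.cast_sub (Nat.one_le_pow _ _ hodd.pos), Nat.cast_pow, Nat.cast_one,
            sub_eq_zero, ← h]
          exact pow_orderOf_eq_one _)
        have := Nat.le_of_dvd (by omega) this
        omega
      · have : 1 ≤ (p ^ k) ^ (n - 1) := Nat.one_le_pow _ _ hodd.pos
        omega
  have hrS : r ∣ Nat.card (POmega F (quadFormOdd n F)) := by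
    rw [card_eq (F₁ := F₁) (by rw [hF, hF₁]) (by rw [hF]; exact hodd) (by omega)]
    exact dvd_card_psp (η := n - 1) hr ho (by omega) (Or.inr ⟨⟨n - 1, by ring⟩, rfl⟩) (by omega)
  obtain ⟨α, hα⟩ := exists_prime_orderOf_dvd_card' r hrS
  obtain ⟨x, hx, f, hf⟩ := Cfsg.Agent.H104.CBadOm.exists_hom h20 (n := n) (m := n - 1) (c := 1) (r := r) (p := p)
    (by omega) (by omega) P.cd hr hr2 hrp (Cfsg.Agent.H104.CBadOm.prim_of_min (by rw [hF]; exact hodd.pos) (by omega)
      (by rw [hF]; exact P.min) (by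
        rw [hF]
        right; exact P.rE)) (S := (⊤ : Subgroup (POmega F (quadFormOdd n F)))) Subgroup.topEquiv (mem_top α) hα
  obtain ⟨U, c, hc, -, hfix, -, hU1⟩ := Cfsg.Agent.H104.CBadOm.exists_frob_t (t := 3) h20 (by norm_num) (by norm_num)
    (nondeg_D (n := 2 * 1 + 1) h20 hx) (by simp)
  obtain ⟨a, ha1⟩ := (Subgroup.ne_bot_iff_exists_ne_one).1 hU1
  have hne := mt (hfix 1 one_pos (by omega) a a.2) (fun h => ha1 (Subtype.ext h))
  rw [pow_one] at hne
  apply hne
  apply hf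
  rw [map_mul, map_mul]
  apply Subtype.ext
  apply e.injective
  rw [Subgroup.coe_mul, Subgroup.coe_mul, map_mul, map_mul]
  have hcc : ∀ y : Subgroup.centralizer ({α} : Set (POmega F (quadFormOdd n F))), e α * e (y : POmega F (quadFormOdd n F)) =
      e (y : POmega F (quadFormOdd n F)) * e α := by
    intro y
    rw [← map_mul, ← map_mul]
    exact congrArg e (mem_centralizer_iff.1 y.2 α rfl)
  refine comm_psl2 h20' (x := e α) ?_ (hcc _) (hcc _)
  intro h
  rw [← map_mul, ← pow_two] at h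
  have h3 : α ^ 2 = 1 := (MulEquiv.map_eq_one_iff e).1 h
  have h4 := orderOf_dvd_of_pow_eq_one h3
  rw [hα] at h4
  exact hr2 ((Nat.prime_dvd_prime_iff_eq hr Nat.prime_two).1 h4)

/-- `Ω_2n+1(q)` is not `A_7` -/
theorem not_alt7 {F : Type} [Field F] [Fintype F] {p n k : ℕ} (hp : p.Prime) (hp2 : p ≠ 2)
    (hk : 1 ≤ k) (hn : 5 ≤ n) (hF : Fintype.card F = p ^ k)
    (e : POmega F (quadFormOdd n F) ≃* alternatingGroup (Fin 7)) : False := by
  have h4 := Cfsg.Agent.S0292.result (F := F) rfl (by rw [hF]; exact (hp.odd_of_ne_two hp2).pow) n (by omega)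
  have h5 : Nat.card (POmega F (quadFormOdd n F)) = 2520 := by
    rw [Nat.card_congr e.toEquiv, Nat.card_eq_fintype_card]
    have := two_mul_card_alternatingGroup (α := Fin 7)
    rw [Fintype.card_perm, Fintype.card_fin] at this
    have h6 : Nat.factorial 7 = 5040 := by decide
    omega
  have h7 : Fintype.card F ^ (n ^ 2) ∣ 2 * Nat.card (POmega F (quadFormOdd n F)) := by
    rw [h4]
    exact Nat.dvd_mul_right _ _
  rw [h5] at h7
  have h8 := Nat.le_of_dvd (by norm_num) h7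
  have h3 : 3 ≤ Fintype.card F := by
    rw [hF]
    have h1 : 3 ≤ p := by
      have := hp.two_le
      omega
    exact h1.trans (Nat.le_self_pow (by omega) p)
  have h9 : 3 ^ 25 ≤ Fintype.card F ^ (n ^ 2) :=
    (Nat.pow_le_pow_left h3 25).trans (Nat.pow_le_pow_right (by omega) (by nlinarith))
  have : (3 : ℕ) ^ 25 ≤ 2 * 2520 := h9.trans h8
  norm_num at this

end Cfsg.Agent.H403.S88
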